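import Groth.Agent.Lib.CechFlasque16.Main
import Groth.Agent.Lib.CohFound.Flasque
import Groth.Prelude.Def_CohTop

/-!
# One- and two-cocycles of flasque sheaves for covers indexed by any type
-/

set_option autoImplicit false
set_option linter.style.haveILetI false
set_option backward.isDefEq.respectTransparency false

universe u

open CategoryTheory CategoryTheory.Limits TopologicalSpace Opposite

namespace Groth.Agent.SmoothObs3

open CechFlasque16 CohFound

variable {X : TopCat.{u}} (I : CohTop.Ab X) [TopCat.Sheaf.IsFlasque I] {ι : Type u} (U : ι → Opens X)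

theorem ext_flasque : CechFlasque16.Ext (I : TopCat.Sheaf AddCommGrpCat X) (fun _ => True) :=
  ⟨fun _ _ _ _ => trivial, fun _ _ => trivial, fun _ _ h _ _ s => CohFound.flasque_surjective I h s⟩

theorem tup_le {n : ℕ} (a : Fin (n + 1) → ι) (k : Fin (n + 1)) : tupOpen U a ≤ U (a k) := iInf_le _ k

/-- One-cocycles in a flasque sheaf are coboundaries. -/
theorem exists_boundary1 (c : ∀ i j, I.obj.obj (op (U i ⊓ U j)))
    (hc : ∀ i j l (O : Opens X) (hi : O ≤ U i) (hj : O ≤ U j) (hl : O ≤ U l),
      res I.obj (le_inf hi hj) (c i j) + res I.obj (le_inf hj hl) (c j l) = res I.obj (le_inf hi hl) (c i l)) :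
    ∃ s : ∀ i, I.obj.obj (op (U i)), ∀ i j, res I.obj inf_le_left (s i) - res I.obj inf_le_right (s j) = c i j := by
  let f : Cochain I.obj U 1 := fun a => res I.obj (le_inf (tup_le U a 0) (tup_le U a 1)) (c (a 0) (a 1))
  have hf : ∀ a, dd I.obj U f a = 0 := fun a => by
    have h := hc (a 0) (a 1) (a 2) (tupOpen U a) (tup_le U a 0) (tup_le U a 1) (tup_le U a 2)
    rw [← sub_eq_zero] at h
    rw [dd, Fin.sum_univ_three]
    refine Eq.trans ?_ h
    simp only [Fin.val_zero, Fin.val_one, Fin.val_two, pow_zero, pow_one, one_smul, neg_smul, f, neg_one_sq, res_res]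
    simp only [Fin.succAbove, Function.comp]
    simp only [Fin.reduceCastSucc, Fin.reduceSucc]
    abel_nf
    rw [add_comm _ (res I.obj _ (c (a 0) (a 1))), ← add_assoc, ← add_assoc, add_comm (res I.obj _ (c (a 1) (a 2)))]
  obtain ⟨g, hg⟩ := exists_dd_eq (ext_flasque I) 0 U (fun _ => trivial) f hf
  have hin : ∀ i, U i ≤ tupOpen U (fun _ : Fin 1 => i) := fun i => le_iInf fun _ => le_rfl
  refine ⟨fun i => - res I.obj (hin i) (g fun _ => i), fun i j => ?_⟩
  let a : Fin 2 → ι := ![i, j]
  have ha : U i ⊓ U j ≤ tupOpen U a := le_iInf fun k => by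
    fin_cases k
    · exact inf_le_left
    · exact inf_le_right
  have h := congrArg (res I.obj ha) (hg a)
  rw [dd, Fin.sum_univ_two, map_add, map_zsmul, map_zsmul] at h
  simp only [Fin.val_zero, Fin.val_one, pow_zero, pow_one, one_smul, neg_smul, res_res] at h
  refine Eq.trans ?_ (h.trans ?_)
  · rw [map_neg, map_neg, res_res, res_res,
      res_congr I.obj (fun b => tupOpen U b) g (show (fun _ : Fin 1 => j) = a ∘ Fin.succAbove 0 by
        funext k; fin_cases k; rfl) (W := U i ⊓ U j) _ (ha.trans (tupOpen_le U a _)),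
      res_congr I.obj (fun b => tupOpen U b) g (show (fun _ : Fin 1 => i) = a ∘ Fin.succAbove 1 by
        funext k; fin_cases k; rfl) (W := U i ⊓ U j) _ (ha.trans (tupOpen_le U a _))]
    abel
  · exact (res_res I.obj _ _ _).trans (res_rfl I.obj _)

/-- Two-cocycles in a flasque sheaf are coboundaries. -/
theorem exists_boundary2 (c : ∀ i j l, I.obj.obj (op (U i ⊓ U j ⊓ U l)))
    (hc : ∀ i j l m (O : Opens X) (hi : O ≤ U i) (hj : O ≤ U j) (hl : O ≤ U l) (hm : O ≤ U m),
      res I.obj (le_inf (le_inf hj hl) hm) (c j l m) + res I.obj (le_inf (le_inf hi hj) hm) (c i j m) =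
        res I.obj (le_inf (le_inf hi hl) hm) (c i l m) + res I.obj (le_inf (le_inf hi hj) hl) (c i j l)) :
    ∃ s : ∀ i j, I.obj.obj (op (U i ⊓ U j)), ∀ i j l,
      res I.obj inf_le_left (s i j) + res I.obj (inf_le_inf_right _ inf_le_right) (s j l) -
        res I.obj (inf_le_inf_right _ inf_le_left) (s i l) = c i j l := by
  let f : Cochain I.obj U 2 := fun a =>
    res I.obj (le_inf (le_inf (tup_le U a 0) (tup_le U a 1)) (tup_le U a 2)) (c (a 0) (a 1) (a 2))
  have hf : ∀ a, dd I.obj U f a = 0 := fun a => by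
    have h := hc (a 0) (a 1) (a 2) (a 3) (tupOpen U a) (tup_le U a 0) (tup_le U a 1) (tup_le U a 2) (tup_le U a 3)
    rw [← sub_eq_zero] at h
    rw [dd, Fin.sum_univ_four]
    refine Eq.trans ?_ h
    simp only [Fin.val_zero, Fin.val_one, Fin.val_two, pow_zero, pow_one, one_smul, neg_smul, f, res_res]
    rw [show ((3 : Fin 4) : ℕ) = 3 from rfl]
    norm_num
    simp only [Fin.succAbove, Function.comp]
    simp only [Fin.reduceCastSucc, Fin.reduceSucc]
    abel_nf
    exact congrArg (_ + ·) (add_left_comm _ _ _)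
  obtain ⟨g, hg⟩ := exists_dd_eq (ext_flasque I) 1 U (fun _ => trivial) f hf
  have hin : ∀ i j : ι, U i ⊓ U j ≤ tupOpen U ![i, j] := fun i j => le_iInf fun k => by
    fin_cases k
    · exact inf_le_left
    · exact inf_le_right
  refine ⟨fun i j => res I.obj (hin i j) (g ![i, j]), fun i j l => ?_⟩
  let a : Fin 3 → ι := ![i, j, l]
  have ha : U i ⊓ U j ⊓ U l ≤ tupOpen U a := le_iInf fun k => by
    fin_cases k
    · exact inf_le_left.trans inf_le_left
    · exact inf_le_left.trans inf_le_right
    · exact inf_le_right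
  have h := congrArg (res I.obj ha) (hg a)
  rw [dd, Fin.sum_univ_three, map_add, map_add, map_zsmul, map_zsmul, map_zsmul] at h
  simp only [Fin.val_zero, Fin.val_one, Fin.val_two, pow_zero, pow_one, one_smul, neg_smul, neg_one_sq, res_res] at h
  refine Eq.trans ?_ (h.trans ?_)
  · rw [res_res, res_res, res_res,
      res_congr I.obj (fun b => tupOpen U b) g (show ![i, j] = a ∘ Fin.succAbove 2 by
        funext k; fin_cases k <;> rfl) (W := U i ⊓ U j ⊓ U l) _ (ha.trans (tupOpen_le U a _)),
      res_congr I.obj (fun b => tupOpen U b) g (show ![j, l] = a ∘ Fin.succAbove 0 by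
        funext k; fin_cases k <;> rfl) (W := U i ⊓ U j ⊓ U l) _ (ha.trans (tupOpen_le U a _)),
      res_congr I.obj (fun b => tupOpen U b) g (show ![i, l] = a ∘ Fin.succAbove 1 by
        funext k; fin_cases k <;> rfl) (W := U i ⊓ U j ⊓ U l) _ (ha.trans (tupOpen_le U a _))]
    abel
  · exact (res_res I.obj _ _ _).trans (res_rfl I.obj _)

end Groth.Agent.SmoothObs3
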