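import Groth.Agent.Lib.SmoothObs3.Hom
import Groth.Agent.Lib.SmoothObs3.Flasque
import Groth.Agent.Lib.CohFound.ModulesInst
import Groth.Agent.Lib.CohFound.QcohAffine
import Groth.Agent.Lib.CohFound.ModFlasque
import Groth.Agent.Lib.ModM1.Exact
import Mathlib.Algebra.Homology.DerivedCategory.Ext.ExactSequences
import Mathlib.Algebra.Homology.DerivedCategory.Ext.EnoughInjectives

/-!
# Two-cocycles of derivations are coboundaries when the second Ext group vanishes
-/

set_option autoImplicit false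
set_option linter.style.haveILetI false
set_option backward.isDefEq.respectTransparency false
set_option backward.isDefEq.respectTransparency.types false

universe u

open CategoryTheory CategoryTheory.Limits AlgebraicGeometry TopologicalSpace Opposite CategoryTheory.Abelian

namespace Groth.Agent.SmoothObs3

variable {X B S : Scheme.{u}} {x : X ⟶ B} [QuasiSeparated x] {i : B ⟶ S} [IsClosedImmersion i]

/-- Sections of a short exact sequence with quasi-coherent kernel lift over affine opens. -/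
theorem surjective_app_of_qcoh {E : ShortComplex X.Modules} (hE : E.ShortExact) (h : Coh.IsQCoh E.X₁)
    {U : X.Opens} (hU : IsAffineOpen U) : Function.Surjective (E.g.app U) := by
  intro t
  haveI : E.X₁.IsQuasicoherent := h
  obtain ⟨r, hr⟩ := CohFound.exact₃ (CohFound.shortExact_abF hE) 0 U
    ((CohFound.hc0 ((CohFound.abF X).obj E.X₃) U).symm t)
    (@Subsingleton.elim _ (CohFound.subsingleton_hc_isAffineOpen E.X₁ hU 0) _ _)
  refine ⟨CohFound.hc0 ((CohFound.abF X).obj E.X₂) U r, ?_⟩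
  have := congrArg (CohFound.hc0 ((CohFound.abF X).obj E.X₃) U) hr
  rw [AddEquiv.apply_symm_apply] at this
  refine Eq.trans ?_ this
  exact (CohFound.hc0_mp ((CohFound.abF X).map E.g) U r).symm

/-- A monomorphism into an injective. -/
noncomputable def injEmb (M : X.Modules) : ShortComplex X.Modules :=
  ShortComplex.mk (Injective.ι M) (cokernel.π (Injective.ι M)) (cokernel.condition _)

theorem injEmb_shortExact (M : X.Modules) : (injEmb M).ShortExact :=
  { exact := ShortComplex.exact_of_g_is_cokernel _ (cokernelIsCokernel _)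
    mono_f := inferInstanceAs (Mono (Injective.ι M))
    epi_g := inferInstanceAs (Epi (cokernel.π _)) }

theorem exists_preimage_post {E : ShortComplex X.Modules} (hE : E.ShortExact) {U : X.Opens}
    {δ : der (x ≫ i) E.X₂ U} (h : post E.g U δ = 0) : ∃ ε : der (x ≫ i) E.X₁ U, post E.f U ε = δ := by
  haveI := hE.mono_f
  have h' : ∀ W : Idx U, ∀ a, E.g.app W.1.1 (δ.1 W a) = 0 := fun W a =>
    congrArg (fun d : der (x ≫ i) E.X₃ U => ap d W.1 W.2 a) h
  choose t ht using fun W a => M1.sections_exact hE.exact _ _ (h' W a)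
  have hinj : ∀ W : Idx U, Function.Injective (E.f.app W.1.1) := fun W => M1.app_injective E.f _
  refine ⟨⟨fun W => AddMonoidHom.mk' (t W) fun a b => hinj W (by rw [map_add, ht, ht, ht, map_add]),
    fun W a b => hinj W ?_, fun W V e a => hinj W ?_, fun W W' hle a => hinj W' ?_⟩, ext' fun W hW a => ht ⟨W, hW⟩ a⟩
  · show E.f.app _ (t W (a * b)) = E.f.app _ (a • t W b + b • t W a)
    rw [map_add, Scheme.Modules.Hom.app_smul, Scheme.Modules.Hom.app_smul, ht, ht, ht, δ.2.1]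
  · show E.f.app _ (t W _) = E.f.app _ 0
    rw [ht, map_zero, δ.2.2.1 W V e a]
  · show E.f.app _ (M1.mres _ hle (t W a)) = E.f.app _ (t W' _)
    rw [ht, M1.app_mres, ht, δ.2.2.2 W W' hle a]

theorem post_injective {Q Q' : X.Modules} (φ : Q ⟶ Q') [Mono φ] {U : X.Opens} :
    Function.Injective (post (g := x ≫ i) φ U) := fun δ ε h => ext' fun W hW a =>
  M1.app_injective φ W.1 (congrArg (fun d : der (x ≫ i) Q' U => ap d W hW a) h)

theorem post_post {Q Q' Q'' : X.Modules} (φ : Q ⟶ Q') (ψ : Q' ⟶ Q'') {U : X.Opens} (δ : der (x ≫ i) Q U) :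
    post ψ U (post φ U δ) = post (φ ≫ ψ) U δ := rfl

theorem post_res {Q Q' : X.Modules} (φ : Q ⟶ Q') {U U' : X.Opens} (h : U' ≤ U) (δ : der (x ≫ i) Q U) :
    post φ U' (res h δ) = res h (post φ U δ) := rfl

theorem post_zero {Q Q' : X.Modules} {U : X.Opens} (δ : der (x ≫ i) Q U) :
    post (0 : Q ⟶ Q') U δ = 0 := rfl

/-- Compatible derivations glue. -/
theorem exists_glue_der {Q : X.Modules} {ι : Type u} (U : ι → X.Opens) (hcov : ⨆ a, U a = ⊤)
    (s : ∀ a, der (x ≫ i) Q (U a))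
    (hs : ∀ a b, res (inf_le_left : U a ⊓ U b ≤ U a) (s a) = res inf_le_right (s b)) :
    ∃ δ : der (x ≫ i) Q ⊤, ∀ a, res le_top δ = s a := by
  obtain ⟨t, ht, -⟩ := (TopCat.Presheaf.isSheaf_iff_isSheafUniqueGluing (derFun (x ≫ i) Q)).1
    (isSheaf_derFun (x ≫ i) Q) U s hs
  exact ⟨res hcov.ge t, fun a => ht a⟩

/-- The coboundary of a one-cochain of derivations. -/
noncomputable def bd {Q : X.Modules} {ι : Type u} (U : ι → X.Opens) (s : ∀ a b, der (x ≫ i) Q (U a ⊓ U b))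
    (a b c : ι) : der (x ≫ i) Q (U a ⊓ U b ⊓ U c) :=
  res inf_le_left (s a b) + res (inf_le_inf_right _ inf_le_right) (s b c) - res (inf_le_inf_right _ inf_le_left) (s a c)

theorem post_sub_eq_zero {P Q R : X.Modules} (φ : P ⟶ Q) (ψ : Q ⟶ R) [Mono ψ] (α : Omega.sheaf x ⟶ R)
    {O O₁ O₂ : X.Opens} (h₁ : O ≤ O₁) (h₂ : O ≤ O₂) (e : der (x ≫ i) P O) (k₁ : der (x ≫ i) P O₁)
    (k₂ : der (x ≫ i) P O₂) (g₁ : der (x ≫ i) R O₁) (g₂ : der (x ≫ i) R O₂)
    (hg : res h₁ g₁ - res h₂ g₂ = post ψ O (post φ O e))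
    (hk₁ : post ψ O₁ (post φ O₁ k₁) = g₁ - ofHom x i α O₁)
    (hk₂ : post ψ O₂ (post φ O₂ k₂) = g₂ - ofHom x i α O₂) :
    post φ O (e - (res h₁ k₁ - res h₂ k₂)) = 0 := by
  refine post_injective ψ ?_
  have e₁ : post ψ O (post φ O (res h₁ k₁)) = res h₁ g₁ - ofHom x i α O := by
    rw [← res_ofHom x i α h₁, ← map_sub, ← hk₁]
    rfl
  have e₂ : post ψ O (post φ O (res h₂ k₂)) = res h₂ g₂ - ofHom x i α O := by
    rw [← res_ofHom x i α h₂, ← map_sub, ← hk₂]
    rfl
  refine Eq.trans ?_ (map_zero (post ψ O)).symm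
  rw [(post φ O).map_sub, (post φ O).map_sub, (post ψ O).map_sub, (post ψ O).map_sub]
  exact sub_eq_zero.2 (hg.symm.trans (((congrArg₂ (· - ·) e₁ e₂).trans (sub_sub_sub_cancel_right _ _ _)).symm))

theorem post_bd {P Q : X.Modules} (φ : P ⟶ Q) [Mono φ] {ι : Type u} (U : ι → X.Opens)
    (s : ∀ a b, der (x ≫ i) P (U a ⊓ U b)) (h : ∀ a b, der (x ≫ i) Q (U a ⊓ U b)) (k : ∀ a, der (x ≫ i) Q (U a))
    (hs : ∀ a b, post φ (U a ⊓ U b) (s a b) = h a b - (res inf_le_left (k a) - res inf_le_right (k b))) (a b d : ι) :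
    post φ _ (bd U s a b d) = bd U h a b d := by
  have e : post φ _ (bd U s a b d) = bd U (fun a b => post φ (U a ⊓ U b) (s a b)) a b d := by
    simp only [bd, map_sub, map_add]
    rfl
  rw [e]
  simp only [bd, hs, map_sub, res_res]
  abel

set_option maxHeartbeats 800000 in
theorem exists_boundary [Smooth x] [HasExt.{u} X.Modules] {J : X.Modules} (hJ : Coh.IsQCoh J)
    (h2 : Subsingleton (Ext.{u} (Omega.sheaf x) J 2)) {ι : Type u} (U : ι → X.affineOpens)
    (hcov : ⨆ a, (U a).1 = ⊤) (hsub : ∀ a, Sub x i (U a))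
    (c : ∀ a b d, der (x ≫ i) J ((U a).1 ⊓ (U b).1 ⊓ (U d).1))
    (hc : ∀ a b d m (O : X.Opens) (ha : O ≤ (U a).1) (hb : O ≤ (U b).1) (hd : O ≤ (U d).1) (hm : O ≤ (U m).1),
      res (le_inf (le_inf hb hd) hm) (c b d m) + res (le_inf (le_inf ha hb) hm) (c a b m) =
        res (le_inf (le_inf ha hd) hm) (c a d m) + res (le_inf (le_inf ha hb) hd) (c a b d)) :
    ∃ s : ∀ a b, der (x ≫ i) J ((U a).1 ⊓ (U b).1), ∀ a b d, bd (fun a => (U a).1) s a b d = c a b d := by
  let V : ι → X.Opens := fun a => (U a).1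
  let E₁ := injEmb J
  have hE₁ : E₁.ShortExact := injEmb_shortExact J
  haveI : Injective E₁.X₂ := inferInstanceAs (Injective (Injective.under J))
  haveI : TopCat.Sheaf.IsFlasque (derSh (x ≫ i) E₁.X₂) := isFlasque_derSh
  obtain ⟨h, hh'⟩ : ∃ h : ∀ a b, der (x ≫ i) E₁.X₂ (V a ⊓ V b),
      ∀ a b d, bd (i := i) V h a b d = post E₁.f _ (c a b d) :=
    exists_boundary2 (derSh (x ≫ i) E₁.X₂) V (fun a b d => post E₁.f _ (c a b d)) fun a b d m O ha hb hd hm =>
      (map_add (post E₁.f O) _ _).symm.trans ((congrArg (post E₁.f O) (hc a b d m O ha hb hd hm)).trans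
        (map_add (post E₁.f O) _ _))
  let E₂ := injEmb E₁.X₃
  have hE₂ : E₂.ShortExact := injEmb_shortExact _
  haveI : Injective E₂.X₂ := inferInstanceAs (Injective (Injective.under E₁.X₃))
  haveI : TopCat.Sheaf.IsFlasque (derSh (x ≫ i) E₂.X₂) := isFlasque_derSh
  have hp : ∀ a b d, bd (i := i) V (fun a b => post E₁.g _ (h a b)) a b d = 0 := fun a b d => by
    have e : bd (i := i) V (fun a b => post E₁.g _ (h a b)) a b d = post E₁.g _ (bd V h a b d) := by
      simp only [bd, map_sub, map_add]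
      rfl
    rw [e, hh', post_post, E₁.zero]
    rfl
  obtain ⟨g, hg'⟩ : ∃ g : ∀ a, der (x ≫ i) E₂.X₂ (V a), ∀ a b,
      res (inf_le_left : V a ⊓ V b ≤ V a) (g a) - res inf_le_right (g b) =
        post E₂.f (V a ⊓ V b) (post E₁.g _ (h a b)) :=
    exists_boundary1 (derSh (x ≫ i) E₂.X₂) V (fun a b => post E₂.f _ (post E₁.g _ (h a b))) fun a b d O ha hb hd => by
      have e := congrArg (res (le_inf (le_inf ha hb) hd : O ≤ V a ⊓ V b ⊓ V d)) (hp a b d)
      rw [map_zero] at e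
      have e' : res (le_inf ha hb) (post E₁.g _ (h a b)) + res (le_inf hb hd) (post E₁.g _ (h b d)) -
          res (le_inf ha hd) (post E₁.g _ (h a d)) = (0 : der (x ≫ i) E₁.X₃ O) := e
      exact (map_add (post E₂.f O) _ _).symm.trans (congrArg (post E₂.f O) (sub_eq_zero.1 e'))
  -- the global morphism
  obtain ⟨G, hG⟩ : ∃ G : Omega.sheaf x ⟶ E₂.X₃, ∀ a, ofHom x i G (V a) = post E₂.g _ (g a) := by
    obtain ⟨G', hG'⟩ := exists_glue_der V hcov (fun a => post E₂.g _ (g a)) fun a b => by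
      have e1 := congrArg (post E₂.g (V a ⊓ V b)) (hg' a b)
      rw [map_sub, post_post E₂.f, E₂.zero, post_zero, sub_eq_zero] at e1
      exact e1
    obtain ⟨G, hG⟩ := exists_hom x i G'
    refine ⟨G, fun a => ?_⟩
    rw [← res_ofHom x i G (le_top : V a ≤ ⊤), hG]
    exact hG' a
  -- lift it
  have hext : Subsingleton (Ext.{u} (Omega.sheaf x) E₁.X₃ 1) := by
    refine ⟨fun u v => sub_eq_zero.1 ?_⟩
    obtain ⟨w, hw⟩ := Ext.covariant_sequence_exact₃ (Omega.sheaf x) hE₁ (u - v) (n₁ := 2) rfl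
      (h2.elim _ _)
    rw [← hw, Ext.eq_zero_of_injective w, Ext.zero_comp]
  obtain ⟨G₁, hG₁⟩ : ∃ G₁ : Omega.sheaf x ⟶ E₂.X₂, G₁ ≫ E₂.g = G := by
    obtain ⟨w, hw⟩ := Ext.covariant_sequence_exact₃ (Omega.sheaf x) hE₂ (Ext.mk₀ G) (n₁ := 1) rfl
      (hext.elim _ _)
    obtain ⟨G₁, rfl⟩ := (Ext.mk₀_bijective _ _).2 w
    rw [Ext.mk₀_comp_mk₀] at hw
    exact ⟨G₁, (Ext.mk₀_bijective _ _).1 hw⟩
  have hpre : ∀ a, ∃ k : der (x ≫ i) E₁.X₂ (V a), post E₂.f _ (post E₁.g _ k) = g a - ofHom x i G₁ (V a) := by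
    intro a
    obtain ⟨ε, hε⟩ := exists_preimage_post hE₂ (δ := g a - ofHom x i G₁ (V a)) (by
      rw [map_sub, post_ofHom, hG₁, hG, sub_self])
    obtain ⟨k, hk⟩ := exists_lift E₁.g (U a) (hsub a) (surjective_app_of_qcoh hE₁ hJ (U a).2) ε
    exact ⟨k, by rw [hk, hε]⟩
  choose k hk using hpre
  haveI : Mono E₂.f := hE₂.mono_f
  have hker : ∀ a b, post E₁.g (V a ⊓ V b) (h a b - (res inf_le_left (k a) - res inf_le_right (k b))) = 0 :=
    fun a b => post_sub_eq_zero E₁.g E₂.f G₁ inf_le_left inf_le_right (h a b) (k a) (k b) (g a) (g b) (hg' a b)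
      (hk a) (hk b)
  choose s hs using fun a b => exists_preimage_post hE₁ (hker a b)
  haveI : Mono E₁.f := hE₁.mono_f
  exact ⟨s, fun a b d => post_injective E₁.f ((post_bd E₁.f V s h k hs a b d).trans (hh' a b d))⟩

end Groth.Agent.SmoothObs3
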