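import Groth.Agent.Lib.SmoothObs3.Der
import Mathlib.AlgebraicGeometry.IdealSheaf.Subscheme
import Mathlib.AlgebraicGeometry.Morphisms.Etale
import Mathlib.AlgebraicGeometry.Morphisms.Smooth
import Mathlib.RingTheory.Smooth.Basic
import Mathlib.RingTheory.Etale.Basic

/-!
# Local lifts along a square zero thickening and their morphisms, on functions
-/

set_option autoImplicit false
set_option linter.style.haveILetI false
set_option backward.isDefEq.respectTransparency false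
set_option backward.isDefEq.respectTransparency.types false

universe u

open CategoryTheory CategoryTheory.Limits AlgebraicGeometry TopologicalSpace Opposite

namespace Groth.Agent.SmoothObs3

variable {X B S : Scheme.{u}}

/-- A module with generators coming from an ideal of the base. -/
structure KerMod (x : X ⟶ B) (i : B ⟶ S) where
  /-- the module -/
  J : X.Modules
  /-- the ideal -/
  I : S.IdealSheafData
  /-- the generators -/
  gm : ∀ V : S.affineOpens, I.ideal V → Γ(J, (x ≫ i) ⁻¹ᵁ V.1)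
  span : ∀ (V : S.affineOpens) (W : X.affineOpens) (e : W.1 ≤ (x ≫ i) ⁻¹ᵁ V.1) (m : Γ(J, W.1)),
    m ∈ Submodule.span Γ(X, W.1) (Set.range fun c => M1.mres J e (gm V c))

variable {x : X ⟶ B} {i : B ⟶ S}

/-- A lift over an affine open, on functions. -/
structure LData (K : KerMod x i) where
  /-- the open -/
  U : X.affineOpens
  /-- the anchor in the base -/
  V₀ : S.affineOpens
  le : U.1 ≤ (x ≫ i) ⁻¹ᵁ V₀.1
  /-- the functions -/
  A : X.affineOpens → CommRingCat.{u}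
  /-- restrictions -/
  rs : ∀ {W W' : X.affineOpens}, W'.1 ≤ W.1 → (A W →+* A W')
  /-- the closed fibre -/
  q : ∀ W : X.affineOpens, W.1 ≤ U.1 → (A W →+* Γ(X, W.1))
  /-- the structure map -/
  str : ∀ (V : S.affineOpens) (W : X.affineOpens), W.1 ≤ (x ≫ i) ⁻¹ᵁ V.1 → (Γ(S, V.1) →+* A W)
  /-- the kernel -/
  θ : ∀ W : X.affineOpens, W.1 ≤ U.1 → (Γ(K.J, W.1) →+ A W)
  /-- the structure morphism -/
  ψ : ∀ W : X.affineOpens, W.1 ≤ U.1 → (Spec (A W) ⟶ S)
  rs_rs : ∀ {W W' W'' : X.affineOpens} (h : W'.1 ≤ W.1) (h' : W''.1 ≤ W'.1) (a : A W),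
    rs h' (rs h a) = rs (h'.trans h) a
  rs_self : ∀ (W : X.affineOpens) (a : A W), rs (le_refl W.1) a = a
  q_rs : ∀ {W W' : X.affineOpens} (hW : W.1 ≤ U.1) (hW' : W'.1 ≤ U.1) (h : W'.1 ≤ W.1) (a : A W),
    q W' hW' (rs h a) = rr h (q W hW a)
  q_surj : ∀ W hW, Function.Surjective (q W hW)
  q_str : ∀ V W hW (e : W.1 ≤ (x ≫ i) ⁻¹ᵁ V.1) a, q W hW (str V W e a) = (x ≫ i).appLE V.1 W.1 e a
  rs_str : ∀ V {W W' : X.affineOpens} (h : W'.1 ≤ W.1) (e : W.1 ≤ (x ≫ i) ⁻¹ᵁ V.1) a,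
    rs h (str V W e a) = str V W' (h.trans e) a
  str_map : ∀ (V V' : S.affineOpens) (h : V'.1 ≤ V.1) (W : X.affineOpens) (e : W.1 ≤ (x ≫ i) ⁻¹ᵁ V.1)
    (e' : W.1 ≤ (x ≫ i) ⁻¹ᵁ V'.1) a, str V' W e' (S.presheaf.map (homOfLE h).op a) = str V W e a
  sep : ∀ W, W.1 ≤ U.1 → ∀ a : A W,
    (∀ z ∈ W.1, ∃ (W' : X.affineOpens) (h : W'.1 ≤ W.1), z ∈ W'.1 ∧ rs h a = 0) → a = 0
  θ_inj : ∀ W hW, Function.Injective (θ W hW)
  θ_range : ∀ W hW (a : A W), q W hW a = 0 → ∃ m, θ W hW m = a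
  q_θ : ∀ W hW m, q W hW (θ W hW m) = 0
  θ_smul : ∀ W hW (a : A W) m, a * θ W hW m = θ W hW (q W hW a • m)
  θ_rs : ∀ {W W' : X.affineOpens} (hW : W.1 ≤ U.1) (hW' : W'.1 ≤ U.1) (h : W'.1 ≤ W.1) m,
    rs h (θ W hW m) = θ W' hW' (M1.mres K.J h m)
  θ_gen : ∀ V W hW (e : W.1 ≤ (x ≫ i) ⁻¹ᵁ V.1) (c : K.I.ideal V),
    θ W hW (M1.mres K.J e (K.gm V c)) = str V W e c
  ψ_rs : ∀ {W W' : X.affineOpens} (hW : W.1 ≤ U.1) (hW' : W'.1 ≤ U.1) (h : W'.1 ≤ W.1),
    Spec.map (CommRingCat.ofHom (rs h)) ≫ ψ W hW = ψ W' hW'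
  ψ_str : ∀ V (W : X.affineOpens) (hW : W.1 ≤ U.1) (e : W.1 ≤ (x ≫ i) ⁻¹ᵁ V.1),
    Spec.map (CommRingCat.ofHom (str V W e)) ≫ V.2.fromSpec = ψ W hW
  smooth_ψ : ∀ W hW, Smooth (ψ W hW)
  open_rs : ∀ {W W' : X.affineOpens} (h : W'.1 ≤ W.1), W.1 ≤ U.1 →
    IsOpenImmersion (Spec.map (CommRingCat.ofHom (rs h)))
  isPullback : ∀ (W : X.affineOpens) (hW : W.1 ≤ U.1),
    IsPullback (Spec.map (CommRingCat.ofHom (q W hW))) (W.2.fromSpec ≫ x) (ψ W hW) i

variable {K : KerMod x i}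

namespace LData

variable (L : LData K)

theorem mul_θ_eq_zero {W : X.affineOpens} (hW : W.1 ≤ L.U.1) (m n : Γ(K.J, W.1)) :
    L.θ W hW m * L.θ W hW n = 0 := by
  rw [L.θ_smul, L.q_θ, zero_smul, map_zero]

theorem mul_ker_eq_zero {W : X.affineOpens} (hW : W.1 ≤ L.U.1) {a b : L.A W} (ha : L.q W hW a = 0) (hb : L.q W hW b = 0) :
    a * b = 0 := by
  obtain ⟨m, rfl⟩ := L.θ_range W hW a ha
  obtain ⟨n, rfl⟩ := L.θ_range W hW b hb
  exact L.mul_θ_eq_zero hW m n

theorem isNilpotent_ker {W : X.affineOpens} (hW : W.1 ≤ L.U.1) : IsNilpotent (RingHom.ker (L.q W hW)) :=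
  ⟨2, by
    rw [pow_two, Ideal.zero_eq_bot, ← le_bot_iff, Ideal.mul_le]
    exact fun a ha b hb => Ideal.mem_bot.2 (L.mul_ker_eq_zero hW ha hb)⟩

theorem etale_rs {W W' : X.affineOpens} (h : W'.1 ≤ W.1) (hW : W.1 ≤ L.U.1) : (L.rs h).Etale := by
  haveI := L.open_rs h hW
  have h1 : Etale (Spec.map (CommRingCat.ofHom (L.rs h))) := inferInstance
  exact (HasRingHomProperty.Spec_iff (P := @Etale)).1 h1

theorem smooth_str {W : X.affineOpens} (hW : W.1 ≤ L.U.1) (V : S.affineOpens) (e : W.1 ≤ (x ≫ i) ⁻¹ᵁ V.1) :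
    (L.str V W e).Smooth := by
  haveI : Smooth (L.ψ W hW) := L.smooth_ψ W hW
  have hP : IsPullback (Spec.map (CommRingCat.ofHom (L.str V W e))) (𝟙 _) V.2.fromSpec (L.ψ W hW) :=
    ⟨⟨by rw [Category.id_comp]; exact L.ψ_str V W hW e⟩, ⟨PullbackCone.IsLimit.mk _ (fun s => s.snd)
      (fun s => (cancel_mono V.2.fromSpec).1 (by rw [Category.assoc, L.ψ_str V W hW e]; exact s.condition.symm))
      (fun s => Category.comp_id _) (fun s m _ h2 => (Category.comp_id m).symm.trans h2)⟩⟩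
  have h1 : Smooth (Spec.map (CommRingCat.ofHom (L.str V W e))) :=
    MorphismProperty.of_isPullback hP.flip (L.smooth_ψ W hW)
  exact (HasRingHomProperty.Spec_iff (P := @Smooth)).1 h1

end LData

/-- A morphism of local lifts over an open, on functions. -/
structure LHom (L L' : LData K) (O : X.Opens) where
  le : O ≤ L.U.1
  le' : O ≤ L'.U.1
  /-- pullback of functions -/
  app : ∀ W : X.affineOpens, W.1 ≤ O → (L'.A W →+* L.A W)
  q_app : ∀ W hW a, L.q W (hW.trans le) (app W hW a) = L'.q W (hW.trans le') a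
  app_str : ∀ W hW V (e : W.1 ≤ (x ≫ i) ⁻¹ᵁ V.1) a, app W hW (L'.str V W e a) = L.str V W e a
  nat : ∀ W hW W' hW' (h : W'.1 ≤ W.1) a, L.rs h (app W hW a) = app W' hW' (L'.rs h a)

namespace LHom

variable {L L' L'' : LData K} {O O' : X.Opens}

theorem app_θ (h : LHom L L' O) (W : X.affineOpens) (hW : W.1 ≤ O) (m : Γ(K.J, W.1)) :
    h.app W hW (L'.θ W (hW.trans h.le') m) = L.θ W (hW.trans h.le) m := by
  have e : W.1 ≤ (x ≫ i) ⁻¹ᵁ L'.V₀.1 := hW.trans (h.le'.trans L'.le)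
  induction K.span L'.V₀ W e m using Submodule.span_induction with
  | mem t ht =>
    obtain ⟨c, rfl⟩ := ht
    rw [L'.θ_gen, h.app_str, L.θ_gen]
  | zero => simp
  | add s t _ _ hs ht => simp only [map_add, hs, ht]
  | smul r t _ ht =>
    obtain ⟨a, rfl⟩ := L'.q_surj W (hW.trans h.le') r
    rw [← L'.θ_smul, map_mul, ht, L.θ_smul, h.q_app]

/-- Restriction. -/
def res (h : LHom L L' O) (hO : O' ≤ O) : LHom L L' O' where
  le := hO.trans h.le
  le' := hO.trans h.le'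
  app W hW := h.app W (hW.trans hO)
  q_app W hW := h.q_app W (hW.trans hO)
  app_str W hW := h.app_str W (hW.trans hO)
  nat W hW W' hW' := h.nat W (hW.trans hO) W' (hW'.trans hO)

@[simp] theorem res_app (h : LHom L L' O) (hO : O' ≤ O) (W : X.affineOpens) (hW : W.1 ≤ O') :
    (h.res hO).app W hW = h.app W (hW.trans hO) := rfl

/-- Composition. -/
def comp (h : LHom L L' O) (k : LHom L' L'' O) : LHom L L'' O where
  le := h.le
  le' := k.le'
  app W hW := (h.app W hW).comp (k.app W hW)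
  q_app W hW a := (h.q_app W hW _).trans (k.q_app W hW a)
  app_str W hW V e a := by
    show h.app W hW (k.app W hW _) = _
    rw [k.app_str, h.app_str]
  nat W hW W' hW' hle a := by
    show L.rs hle (h.app W hW (k.app W hW a)) = h.app W' hW' (k.app W' hW' _)
    rw [h.nat W hW W' hW' hle, k.nat W hW W' hW' hle]

/-- The identity. -/
def id (L : LData K) (O : X.Opens) (hO : O ≤ L.U.1) : LHom L L O where
  le := hO
  le' := hO
  app W _ := RingHom.id _
  q_app _ _ _ := rfl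
  app_str _ _ _ _ _ := rfl
  nat _ _ _ _ _ _ := rfl

theorem exists_diff_val (h h' : LHom L L' O) (W : X.affineOpens) (hW : W.1 ≤ O) (s : Γ(X, W.1)) :
    ∃ m : Γ(K.J, W.1), ∀ a, L'.q W (hW.trans h.le') a = s → L.θ W (hW.trans h.le) m = h.app W hW a - h'.app W hW a := by
  obtain ⟨a₀, ha₀⟩ := L'.q_surj W (hW.trans h.le') s
  obtain ⟨m, hm⟩ := L.θ_range W (hW.trans h.le) (h.app W hW a₀ - h'.app W hW a₀)
    (by rw [map_sub, h.q_app, h'.q_app, sub_self])
  refine ⟨m, fun a ha => hm.trans ?_⟩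
  obtain ⟨n, hn⟩ := L'.θ_range W (hW.trans h.le') (a₀ - a) (by rw [map_sub, ha₀, ha, sub_self])
  rw [sub_eq_sub_iff_sub_eq_sub, ← map_sub, ← map_sub, ← hn, app_θ h W hW, app_θ h' W hW]

/-- The difference on one section. -/
noncomputable def diffVal (h h' : LHom L L' O) (W : X.affineOpens) (hW : W.1 ≤ O) (s : Γ(X, W.1)) : Γ(K.J, W.1) :=
  (exists_diff_val h h' W hW s).choose

theorem θ_diffVal (h h' : LHom L L' O) (W : X.affineOpens) (hW : W.1 ≤ O) (a : L'.A W) :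
    L.θ W (hW.trans h.le) (diffVal h h' W hW (L'.q W (hW.trans h.le') a)) = h.app W hW a - h'.app W hW a :=
  (exists_diff_val h h' W hW _).choose_spec a rfl

/-- The difference of two morphisms. -/
noncomputable def diff (h h' : LHom L L' O) : der (x ≫ i) K.J O :=
  have inj := fun (W : Idx O) => L.θ_inj W.1 (W.2.trans h.le)
  have lift := fun (W : Idx O) => L'.q_surj W.1 (W.2.trans h.le')
  ⟨fun W => AddMonoidHom.mk' (diffVal h h' W.1 W.2) fun s t => inj W (by
      obtain ⟨a, rfl⟩ := lift W s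
      obtain ⟨b, rfl⟩ := lift W t
      rw [← map_add, map_add (L.θ _ _), θ_diffVal, θ_diffVal, θ_diffVal, map_add, map_add]
      ring),
    fun W s t => inj W (by
      obtain ⟨a, rfl⟩ := lift W s
      obtain ⟨b, rfl⟩ := lift W t
      show L.θ _ _ (diffVal h h' W.1 W.2 (L'.q _ (W.2.trans h.le') a * L'.q _ (W.2.trans h.le') b)) = L.θ _ _ (L'.q _ (W.2.trans h.le') a • diffVal h h' W.1 W.2 (L'.q _ (W.2.trans h.le') b) +
        L'.q _ (W.2.trans h.le') b • diffVal h h' W.1 W.2 (L'.q _ (W.2.trans h.le') a))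
      rw [← map_mul, θ_diffVal, map_add, map_mul, map_mul]
      have e₁ := L.θ_smul W.1 (W.2.trans h.le) (h.app W.1 W.2 a) (diffVal h h' W.1 W.2 (L'.q _ (W.2.trans h.le') b))
      have e₂ := L.θ_smul W.1 (W.2.trans h.le) (h'.app W.1 W.2 b) (diffVal h h' W.1 W.2 (L'.q _ (W.2.trans h.le') a))
      rw [h.q_app, θ_diffVal] at e₁
      rw [h'.q_app, θ_diffVal] at e₂
      rw [← e₁, ← e₂]
      ring),
    fun W V e c => inj W (by
      show L.θ _ _ (diffVal h h' W.1 W.2 _) = L.θ _ _ 0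
      rw [← L'.q_str V W.1 (W.2.trans h.le') e c, θ_diffVal, h.app_str, h'.app_str, sub_self, map_zero]),
    fun W W' hle s => inj W' (by
      obtain ⟨a, rfl⟩ := lift W s
      show L.θ _ _ (M1.mres K.J hle (diffVal h h' W.1 W.2 _)) = L.θ _ _ (diffVal h h' W'.1 W'.2 _)
      rw [← L.θ_rs (W.2.trans h.le) (W'.2.trans h.le) hle, θ_diffVal, map_sub, h.nat W.1 W.2 W'.1 W'.2 hle,
        h'.nat W.1 W.2 W'.1 W'.2 hle, ← L'.q_rs (W.2.trans h.le') (W'.2.trans h.le') hle, θ_diffVal])⟩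

theorem θ_diff (h h' : LHom L L' O) (W : X.affineOpens) (hW : W.1 ≤ O) (a : L'.A W) :
    L.θ W (hW.trans h.le) (ap (diff h h') W hW (L'.q W (hW.trans h.le') a)) = h.app W hW a - h'.app W hW a :=
  θ_diffVal h h' W hW a

theorem diff_eq {h h' : LHom L L' O} {δ : der (x ≫ i) K.J O}
    (H : ∀ W hW a, L.θ W (hW.trans h.le) (ap δ W hW (L'.q W (hW.trans h.le') a)) = h.app W hW a - h'.app W hW a) :
    diff h h' = δ :=
  ext' fun W hW s => L.θ_inj W (hW.trans h.le) (by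
    obtain ⟨a, rfl⟩ := L'.q_surj W (hW.trans h.le') s
    rw [θ_diff, H W hW a])

theorem diff_self (h : LHom L L' O) : diff h h = 0 := diff_eq fun W hW a => by simp

theorem diff_add_diff (h h' h'' : LHom L L' O) : diff h h' + diff h' h'' = diff h h'' :=
  (diff_eq fun W hW a => by rw [ap_add, map_add, θ_diff, θ_diff h' h'' W hW a]; ring).symm

theorem diff_comp (h h' : LHom L L' O) (k k' : LHom L' L'' O) :
    diff (h.comp k) (h'.comp k') = diff h h' + diff k k' :=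
  diff_eq fun W hW a => by
    show L.θ W _ (ap (diff h h') W hW (L''.q W (hW.trans k.le') a) + ap (diff k k') W hW (L''.q W (hW.trans k.le') a)) =
      h.app W hW (k.app W hW a) - h'.app W hW (k'.app W hW a)
    have e₁ := θ_diff h h' W hW (k.app W hW a)
    rw [k.q_app] at e₁
    have e₂ : L.θ W (hW.trans h.le) (ap (diff k k') W hW (L''.q W (hW.trans k.le') a)) =
        h'.app W hW (k.app W hW a) - h'.app W hW (k'.app W hW a) := by
      rw [← map_sub, ← θ_diff k k' W hW a, app_θ h' W hW]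
    rw [map_add, e₁, e₂]
    ring

theorem diff_res (h h' : LHom L L' O) (hO : O' ≤ O) : diff (h.res hO) (h'.res hO) = SmoothObs3.res hO (diff h h') :=
  diff_eq fun W hW a => θ_diff h h' W (hW.trans hO) a

theorem app_eq_of_diff {h h' : LHom L L' O} (H : diff h h' = 0) (W : X.affineOpens) (hW : W.1 ≤ O) (a : L'.A W) :
    h.app W hW a = h'.app W hW a := by
  rw [← sub_eq_zero, ← θ_diff h h' W hW a, H, ap_zero, map_zero]

/-- Translation by a derivation. -/
noncomputable def vadd (h : LHom L L' O) (δ : der (x ≫ i) K.J O) : LHom L L' O where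
  le := h.le
  le' := h.le'
  app W hW :=
    { toFun := fun a => h.app W hW a + L.θ W (hW.trans h.le) (ap δ W hW (L'.q W (hW.trans h.le') a))
      map_one' := by rw [map_one, map_one, ap_one, map_zero, add_zero]
      map_mul' := fun a b => by
        rw [map_mul, map_mul, ap_mul, map_add, ← h.q_app W hW a, ← h.q_app W hW b, ← L.θ_smul, ← L.θ_smul,
          h.q_app, h.q_app]
        linear_combination -(L.mul_θ_eq_zero (hW.trans h.le) (ap δ W hW (L'.q W (hW.trans h.le') a)) (ap δ W hW (L'.q W (hW.trans h.le') b)))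
      map_zero' := by simp
      map_add' := fun a b => by simp only [map_add]; ring }
  q_app W hW a := by
    show L.q W (hW.trans h.le) (h.app W hW a + L.θ W _ _) = _
    rw [map_add, h.q_app, L.q_θ, add_zero]
  app_str W hW V e c := by
    show h.app W hW _ + L.θ W _ (ap δ W hW (L'.q W (hW.trans h.le') _)) = _
    rw [h.app_str, L'.q_str V W (hW.trans h.le') e, ap_base, map_zero, add_zero]
  nat W hW W' hW' hle a := by
    show L.rs hle (h.app W hW a + L.θ W _ _) = h.app W' hW' _ + L.θ W' _ (ap δ W' hW' (L'.q W' (hW'.trans h.le') _))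
    rw [map_add, h.nat W hW W' hW' hle, L.θ_rs (hW.trans h.le) (hW'.trans h.le) hle, ap_nat δ W W' hW hW' hle,
      L'.q_rs (hW.trans h.le') (hW'.trans h.le')]

theorem diff_vadd (h : LHom L L' O) (δ : der (x ≫ i) K.J O) : diff (h.vadd δ) h = δ :=
  diff_eq fun W hW a => (add_sub_cancel_left (h.app W hW a) _).symm

/-- Morphisms exist over affine opens. -/
theorem exists_hom (L L' : LData K) (O : X.affineOpens) (hO : O.1 ≤ L.U.1) (hO' : O.1 ≤ L'.U.1) :
    Nonempty (LHom L L' O.1) := by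
  have eO : O.1 ≤ (x ≫ i) ⁻¹ᵁ L'.V₀.1 := hO'.trans L'.le
  obtain ⟨G₀, hG₀, hG₀s⟩ : ∃ G₀ : L'.A O →+* L.A O, (∀ a, L.q O hO (G₀ a) = L'.q O hO' a) ∧
      ∀ c, G₀ (L'.str L'.V₀ O eO c) = L.str L'.V₀ O eO c := by
    letI : Algebra Γ(S, L'.V₀.1) (L'.A O) := (L'.str L'.V₀ O eO).toAlgebra
    letI : Algebra Γ(S, L'.V₀.1) (L.A O) := (L.str L'.V₀ O eO).toAlgebra
    letI : Algebra Γ(S, L'.V₀.1) Γ(X, O.1) := ((x ≫ i).appLE L'.V₀.1 O.1 eO).hom.toAlgebra
    haveI : Algebra.Smooth Γ(S, L'.V₀.1) (L'.A O) := L'.smooth_str hO' L'.V₀ eO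
    let q : L.A O →ₐ[Γ(S, L'.V₀.1)] Γ(X, O.1) := { L.q O hO with commutes' := L.q_str L'.V₀ O hO eO }
    let f : L'.A O →ₐ[Γ(S, L'.V₀.1)] Γ(X, O.1) := { L'.q O hO' with commutes' := L'.q_str L'.V₀ O hO' eO }
    let l := Algebra.FormallySmooth.liftOfSurjective f q (L.q_surj O hO) (L.isNilpotent_ker hO)
    exact ⟨l.toRingHom, fun r => Algebra.FormallySmooth.liftOfSurjective_apply _ q _ _ r, l.commutes⟩
  have key : ∀ (W : X.affineOpens) (hW : W.1 ≤ O.1), ∃! G : L'.A W →+* L.A W,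
      (∀ a, L.q W (hW.trans hO) (G a) = L'.q W (hW.trans hO') a) ∧ ∀ a, G (L'.rs hW a) = L.rs hW (G₀ a) := by
    intro W hW
    letI : Algebra (L'.A O) (L'.A W) := (L'.rs hW).toAlgebra
    letI : Algebra (L'.A O) (L.A W) := ((L.rs hW).comp G₀).toAlgebra
    letI : Algebra (L'.A O) Γ(X, W.1) := ((rr hW).comp (L'.q O hO')).toAlgebra
    haveI : Algebra.Etale (L'.A O) (L'.A W) := L'.etale_rs hW hO'
    let q : L.A W →ₐ[L'.A O] Γ(X, W.1) :=
      { L.q W (hW.trans hO) with commutes' := fun a => (L.q_rs hO (hW.trans hO) hW _).trans (congrArg (rr hW) (hG₀ a)) }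
    let f : L'.A W →ₐ[L'.A O] Γ(X, W.1) := { L'.q W (hW.trans hO') with commutes' := fun a => L'.q_rs hO' (hW.trans hO') hW a }
    let l := Algebra.FormallySmooth.liftOfSurjective f q (L.q_surj W (hW.trans hO)) (L.isNilpotent_ker (hW.trans hO))
    refine ⟨l.toRingHom,
      ⟨fun r => Algebra.FormallySmooth.liftOfSurjective_apply _ q _ _ r, l.commutes⟩, fun G hG => ?_⟩
    let l' : L'.A W →ₐ[L'.A O] L.A W := { G with commutes' := hG.2 }
    have e : l' = l := Algebra.FormallyUnramified.lift_unique_of_ringHom (B := L.A W) (L.q W (hW.trans hO))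
      (L.isNilpotent_ker (hW.trans hO)) l' l (RingHom.ext fun r => (hG.1 r).trans
        (Algebra.FormallySmooth.liftOfSurjective_apply f q (L.q_surj W (hW.trans hO))
          (L.isNilpotent_ker (hW.trans hO)) r).symm)
    exact congrArg AlgHom.toRingHom e
  choose G hG _ using key
  have hnat : ∀ W hW W' hW' (h : W'.1 ≤ W.1) a, L.rs h (G W hW a) = G W' hW' (L'.rs h a) := by
    intro W hW W' hW' h a
    letI : Algebra (L'.A O) (L'.A W) := (L'.rs hW).toAlgebra
    letI : Algebra (L'.A O) (L.A W') := ((L.rs hW').comp G₀).toAlgebra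
    haveI : Algebra.Etale (L'.A O) (L'.A W) := L'.etale_rs hW hO'
    let l : L'.A W →ₐ[L'.A O] L.A W' :=
      { (L.rs h).comp (G W hW) with
        commutes' := fun b => by
          show L.rs h (G W hW (L'.rs hW b)) = L.rs hW' (G₀ b)
          rw [(hG W hW).2, L.rs_rs] }
    let l' : L'.A W →ₐ[L'.A O] L.A W' :=
      { (G W' hW').comp (L'.rs h) with
        commutes' := fun b => by
          show G W' hW' (L'.rs h (L'.rs hW b)) = L.rs hW' (G₀ b)
          rw [L'.rs_rs, (hG W' hW').2] }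
    have e : l = l' := Algebra.FormallyUnramified.lift_unique_of_ringHom (B := L.A W') (L.q W' (hW'.trans hO))
      (L.isNilpotent_ker (hW'.trans hO)) l l' (RingHom.ext fun b => by
        show L.q W' (hW'.trans hO) (L.rs h (G W hW b)) = L.q W' (hW'.trans hO) (G W' hW' (L'.rs h b))
        rw [L.q_rs (hW.trans hO) (hW'.trans hO), (hG W hW).1, (hG W' hW').1, L'.q_rs (hW.trans hO') (hW'.trans hO')])
    exact DFunLike.congr_fun e a
  have hstr₀ : ∀ W hW c, G W hW (L'.str L'.V₀ W (hW.trans eO) c) = L.str L'.V₀ W (hW.trans eO) c := fun W hW c => by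
    rw [← L'.rs_str L'.V₀ hW eO, (hG W hW).2, hG₀s, L.rs_str]
  refine ⟨{ le := hO, le' := hO', app := G, q_app := fun W hW => (hG W hW).1,
            nat := hnat, app_str := fun W hW V e c => ?_ }⟩
  refine sub_eq_zero.1 (L.sep W (hW.trans hO) _ fun z hz => ?_)
  obtain ⟨r, hrV, hzr⟩ := L'.V₀.2.exists_basicOpen_le (V := V.1) ⟨(x ≫ i) z, e hz⟩ (eO (hW hz))
  obtain ⟨W', hW', hz', hle⟩ := exists_isAffineOpen_mem_and_subset
    (U := W.1 ⊓ (x ≫ i) ⁻¹ᵁ S.basicOpen r) (x := z) ⟨hz, hzr⟩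
  have hWW : W' ≤ W.1 := fun b hb => (hle hb).1
  let D : S.affineOpens := ⟨S.basicOpen r, L'.V₀.2.basicOpen r⟩
  have hD : W' ≤ (x ≫ i) ⁻¹ᵁ D.1 := fun b hb => (hle hb).2
  let W₁ : X.affineOpens := ⟨W', hW'⟩
  have h₀ : W₁.1 ≤ (x ≫ i) ⁻¹ᵁ L'.V₀.1 := hWW.trans (hW.trans eO)
  refine ⟨W₁, hWW, hz', ?_⟩
  rw [map_sub, hnat W hW W₁ (hWW.trans hW) hWW, L'.rs_str V hWW e, L.rs_str V hWW e,
    ← L'.str_map V D hrV W₁ (hWW.trans e) hD, ← L.str_map V D hrV W₁ (hWW.trans e) hD]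
  letI := L'.V₀.2.isLocalization_basicOpen r
  obtain ⟨⟨b, m⟩, hb⟩ := IsLocalization.surj (Submonoid.powers r) (S.presheaf.map (homOfLE hrV).op c)
  generalize S.presheaf.map (homOfLE hrV).op c = γ at hb ⊢
  have hu : ∀ y : Γ(S, L'.V₀.1), G W₁ (hWW.trans hW) (L'.str D W₁ hD (S.presheaf.map (homOfLE (S.basicOpen_le r)).op y)) =
      L.str D W₁ hD (S.presheaf.map (homOfLE (S.basicOpen_le r)).op y) := fun y => by
    rw [L'.str_map L'.V₀ D (S.basicOpen_le r) W₁ h₀ hD, L.str_map L'.V₀ D (S.basicOpen_le r) W₁ h₀ hD]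
    exact hstr₀ W₁ (hWW.trans hW) y
  have hb' : γ * S.presheaf.map (homOfLE (S.basicOpen_le r)).op (m : Γ(S, L'.V₀.1)) =
      S.presheaf.map (homOfLE (S.basicOpen_le r)).op b := hb
  have e1 := congrArg (G W₁ (hWW.trans hW)) (congrArg (L'.str D W₁ hD) hb')
  rw [map_mul, map_mul, hu, hu, ← congrArg (L.str D W₁ hD) hb', map_mul] at e1
  obtain ⟨n, hn⟩ := m.2
  have hun : IsUnit (L.str D W₁ hD (S.presheaf.map (homOfLE (S.basicOpen_le r)).op (m : Γ(S, L'.V₀.1)))) := by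
    refine IsUnit.map _ ?_
    rw [← hn, map_pow]
    exact (RingedSpace.isUnit_res_basicOpen S.toRingedSpace r).pow n
  exact sub_eq_zero.2 (hun.mul_right_cancel e1)

end LHom

end Groth.Agent.SmoothObs3
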