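import Groth.Agent.Lib.ModM1.Stalk
import Groth.Agent.Lib.ModM1.Exact
import Groth.Agent.Lib.CohFound.Flasque
import Groth.Prelude.Def_CohTop
import Mathlib.Topology.Sheaves.SheafCondition.UniqueGluing
import Mathlib.AlgebraicGeometry.AffineScheme

/-!
# Sheaves of derivations with values in a module, given on affine opens
-/

set_option autoImplicit false
set_option linter.style.haveILetI false
set_option backward.isDefEq.respectTransparency false
set_option backward.isDefEq.respectTransparency.types false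

universe u

open CategoryTheory CategoryTheory.Limits AlgebraicGeometry TopologicalSpace Opposite

namespace Groth.Agent.SmoothObs3

variable {X S : Scheme.{u}} (g : X ⟶ S) (Q : X.Modules)

/-- Affine opens inside an open. -/
abbrev Idx (U : X.Opens) : Type u := {W : X.affineOpens // W.1 ≤ U}

/-- A section of `O_X` restricted. -/
noncomputable abbrev rr {W W' : X.Opens} (h : W' ≤ W) : Γ(X, W) →+* Γ(X, W') := (X.presheaf.map (homOfLE h).op).hom

theorem rr_rr {W W' W'' : X.Opens} (h : W' ≤ W) (h' : W'' ≤ W') (a : Γ(X, W)) :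
    rr h' (rr h a) = rr (h'.trans h) a := by
  show (X.presheaf.map _ ≫ X.presheaf.map _) a = _
  rw [← X.presheaf.map_comp]
  rfl

theorem rr_self {W : X.Opens} (h : W ≤ W) (a : Γ(X, W)) : rr h a = a := by
  show X.presheaf.map (homOfLE h).op a = a
  rw [show (homOfLE h).op = 𝟙 (op W) from rfl, X.presheaf.map_id]
  rfl

/-- Natural families of derivations into `Q` on the affine opens of `U`, killing the functions of `S`. -/
def der (U : X.Opens) : AddSubgroup ((W : Idx U) → (Γ(X, W.1.1) →+ Γ(Q, W.1.1))) where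
  carrier := {δ | (∀ W a b, δ W (a * b) = a • δ W b + b • δ W a) ∧
    (∀ (W : Idx U) (V : S.affineOpens) (e : W.1.1 ≤ g ⁻¹ᵁ V.1) (a : Γ(S, V.1)),
      δ W (g.appLE V.1 W.1.1 e a) = 0) ∧
    ∀ (W W' : Idx U) (h : W'.1.1 ≤ W.1.1) a, M1.mres Q h (δ W a) = δ W' (rr h a)}
  zero_mem' := by
    refine ⟨fun W a b => ?_, fun W V e a => ?_, fun W W' h a => ?_⟩ <;> simp
  add_mem' := by
    rintro δ ε ⟨h1, h2, h3⟩ ⟨k1, k2, k3⟩
    refine ⟨fun W a b => ?_, fun W V e a => ?_, fun W W' h a => ?_⟩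
    · simp only [Pi.add_apply, AddMonoidHom.add_apply, h1, k1, smul_add]
      abel
    · simp only [Pi.add_apply, AddMonoidHom.add_apply, h2, k2, add_zero]
    · simp only [Pi.add_apply, AddMonoidHom.add_apply, map_add, h3, k3]
  neg_mem' := by
    rintro δ ⟨h1, h2, h3⟩
    refine ⟨fun W a b => ?_, fun W V e a => ?_, fun W W' h a => ?_⟩
    · simp only [Pi.neg_apply, AddMonoidHom.neg_apply, h1, smul_neg]
      abel
    · simp only [Pi.neg_apply, AddMonoidHom.neg_apply, h2, neg_zero]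
    · simp only [Pi.neg_apply, AddMonoidHom.neg_apply, map_neg, h3]

variable {g Q} {U U' U'' : X.Opens}

/-- The value of a family. -/
def ap (δ : der g Q U) (W : X.affineOpens) (hW : W.1 ≤ U) : Γ(X, W.1) →+ Γ(Q, W.1) := δ.1 ⟨W, hW⟩

theorem ap_mul (δ : der g Q U) (W : X.affineOpens) (hW : W.1 ≤ U) (a b : Γ(X, W.1)) :
    ap δ W hW (a * b) = a • ap δ W hW b + b • ap δ W hW a := δ.2.1 ⟨W, hW⟩ a b

theorem ap_base (δ : der g Q U) (W : X.affineOpens) (hW : W.1 ≤ U) (V : S.affineOpens) (e : W.1 ≤ g ⁻¹ᵁ V.1)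
    (a : Γ(S, V.1)) : ap δ W hW (g.appLE V.1 W.1 e a) = 0 := δ.2.2.1 ⟨W, hW⟩ V e a

theorem ap_nat (δ : der g Q U) (W W' : X.affineOpens) (hW : W.1 ≤ U) (hW' : W'.1 ≤ U) (h : W'.1 ≤ W.1)
    (a : Γ(X, W.1)) : M1.mres Q h (ap δ W hW a) = ap δ W' hW' (rr h a) := δ.2.2.2 ⟨W, hW⟩ ⟨W', hW'⟩ h a

theorem ext' {δ ε : der g Q U} (h : ∀ W hW a, ap δ W hW a = ap ε W hW a) : δ = ε :=
  Subtype.ext (funext fun W => AddMonoidHom.ext fun a => h W.1 W.2 a)

@[simp] theorem ap_add (δ ε : der g Q U) (W : X.affineOpens) (hW : W.1 ≤ U) (a : Γ(X, W.1)) :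
    ap (δ + ε) W hW a = ap δ W hW a + ap ε W hW a := rfl

@[simp] theorem ap_sub (δ ε : der g Q U) (W : X.affineOpens) (hW : W.1 ≤ U) (a : Γ(X, W.1)) :
    ap (δ - ε) W hW a = ap δ W hW a - ap ε W hW a := rfl

@[simp] theorem ap_neg (δ : der g Q U) (W : X.affineOpens) (hW : W.1 ≤ U) (a : Γ(X, W.1)) :
    ap (-δ) W hW a = -ap δ W hW a := rfl

@[simp] theorem ap_zero (W : X.affineOpens) (hW : W.1 ≤ U) (a : Γ(X, W.1)) :
    ap (0 : der g Q U) W hW a = 0 := rfl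

theorem ap_one (δ : der g Q U) (W : X.affineOpens) (hW : W.1 ≤ U) : ap δ W hW 1 = 0 := by
  have h := ap_mul δ W hW 1 1
  rw [one_mul, one_smul] at h
  exact add_eq_left.1 h.symm

/-- Restriction. -/
def res (h : U' ≤ U) : der g Q U →+ der g Q U' where
  toFun δ := ⟨fun W => δ.1 ⟨W.1, W.2.trans h⟩, fun W => δ.2.1 ⟨W.1, W.2.trans h⟩,
    fun W => δ.2.2.1 ⟨W.1, W.2.trans h⟩,
    fun W W' => δ.2.2.2 ⟨W.1, W.2.trans h⟩ ⟨W'.1, W'.2.trans h⟩⟩
  map_zero' := rfl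
  map_add' _ _ := rfl

@[simp] theorem ap_res (h : U' ≤ U) (δ : der g Q U) (W : X.affineOpens) (hW : W.1 ≤ U') (a : Γ(X, W.1)) :
    ap (res h δ) W hW a = ap δ W (hW.trans h) a := rfl

@[simp] theorem res_res (h : U' ≤ U) (h' : U'' ≤ U') (δ : der g Q U) : res h' (res h δ) = res (h'.trans h) δ := rfl

theorem res_self (h : U ≤ U) (δ : der g Q U) : res h δ = δ := rfl

/-- Composition with a morphism of modules. -/
noncomputable def post {Q' : X.Modules} (φ : Q ⟶ Q') (U : X.Opens) : der g Q U →+ der g Q' U where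
  toFun δ := ⟨fun W => (φ.app W.1.1).hom.comp (δ.1 W), fun W a b => by
      show φ.app _ (δ.1 W (a * b)) = a • φ.app _ (δ.1 W b) + b • φ.app _ (δ.1 W a)
      rw [δ.2.1, map_add, Scheme.Modules.Hom.app_smul, Scheme.Modules.Hom.app_smul], fun W V e a => by
      show φ.app _ (δ.1 W _) = 0
      rw [δ.2.2.1 W V e a, map_zero], fun W W' h a => by
      show M1.mres Q' h (φ.app _ (δ.1 W a)) = φ.app _ (δ.1 W' _)
      rw [← δ.2.2.2 W W' h a]
      exact (M1.app_mres φ h _).symm⟩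
  map_zero' := ext' fun W hW a => map_zero (φ.app W.1).hom
  map_add' δ ε := ext' fun W hW a => map_add (φ.app W.1).hom _ _

@[simp] theorem ap_post {Q' : X.Modules} (φ : Q ⟶ Q') (δ : der g Q U) (W : X.affineOpens) (hW : W.1 ≤ U)
    (a : Γ(X, W.1)) : ap (post φ U δ) W hW a = φ.app W.1 (ap δ W hW a) := rfl

/-- The presheaf of derivations. -/
noncomputable def derFun (g : X ⟶ S) (Q : X.Modules) : TopCat.Presheaf AddCommGrpCat.{u} X.carrier where
  obj U := AddCommGrpCat.of (der g Q U.unop)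
  map i := AddCommGrpCat.ofHom (res (leOfHom i.unop))

theorem section_ext_affine {M : X.Modules} {W : X.Opens} {s t : Γ(M, W)}
    (h : ∀ z ∈ W, ∃ (W' : X.affineOpens) (hle : W'.1 ≤ W), z ∈ W'.1 ∧ M1.mres M hle s = M1.mres M hle t) : s = t :=
  M1.section_ext _ _ fun z hz => by
    obtain ⟨W', hle, hz', e⟩ := h z hz
    rw [← M1.germ_mres M hle hz' s, ← M1.germ_mres M hle hz' t, e]

theorem isSheaf_derFun (g : X ⟶ S) (Q : X.Modules) : (derFun g Q).IsSheaf := by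
  rw [TopCat.Presheaf.isSheaf_iff_isSheafUniqueGluing]
  intro ι U sf hsf
  have hc : ∀ i j (W : X.affineOpens) (hi : W.1 ≤ U i) (hj : W.1 ≤ U j) a,
      ap (g := g) (Q := Q) (sf i) W hi a = ap (g := g) (Q := Q) (sf j) W hj a := fun i j W hi hj a => by
    have e : res (g := g) (Q := Q) (inf_le_left : U i ⊓ U j ≤ U i) (sf i) = res inf_le_right (sf j) := hsf i j
    exact congrArg (fun δ => ap δ W (le_inf hi hj) a) e
  have hloc : ∀ (W : Idx (iSup U)) (z : X), z ∈ W.1.1 →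
      ∃ (i : ι) (W' : X.affineOpens), z ∈ W'.1 ∧ W'.1 ≤ W.1.1 ∧ W'.1 ≤ U i := by
    intro W z hz
    obtain ⟨i, hi⟩ := Opens.mem_iSup.1 (W.2 hz)
    obtain ⟨W', hW', hz', hle⟩ := exists_isAffineOpen_mem_and_subset (U := W.1.1 ⊓ U i) (x := z) ⟨hz, hi⟩
    exact ⟨i, ⟨W', hW'⟩, hz', fun a ha => (hle ha).1, fun a ha => (hle ha).2⟩
  have hglue : ∀ (W : Idx (iSup U)) (a : Γ(X, W.1.1)), ∃ t : Γ(Q, W.1.1),
      ∀ i (W' : X.affineOpens) (h : W'.1 ≤ W.1.1) (hi : W'.1 ≤ U i),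
        M1.mres Q h t = ap (g := g) (Q := Q) (sf i) W' hi (rr h a) := by
    intro W a
    choose i W' hzW' hW'W hW'U using hloc W
    obtain ⟨t, ht, -⟩ := TopCat.Sheaf.existsUnique_gluing'
      (⟨Q.presheaf, Q.isSheaf⟩ : TopCat.Sheaf AddCommGrpCat.{u} X.carrier)
      (fun z : W.1.1 => (W' z.1 z.2).1) W.1.1 (fun z => homOfLE (hW'W z.1 z.2))
      (fun z hz => Opens.mem_iSup.2 ⟨⟨z, hz⟩, hzW' z hz⟩)
      (fun z => ap (g := g) (Q := Q) (sf (i z.1 z.2)) (W' z.1 z.2) (hW'U z.1 z.2) (rr (hW'W z.1 z.2) a))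
      (fun z z' => by
        refine section_ext_affine fun w hw => ?_
        obtain ⟨W'', hW'', hw', hle⟩ := exists_isAffineOpen_mem_and_subset
          (U := (W' z.1 z.2).1 ⊓ (W' z'.1 z'.2).1) (x := w) hw
        have h1 : W'' ≤ (W' z.1 z.2).1 := fun b hb => (hle hb).1
        have h2 : W'' ≤ (W' z'.1 z'.2).1 := fun b hb => (hle hb).2
        refine ⟨⟨W'', hW''⟩, le_inf h1 h2, hw', ?_⟩
        show M1.mres Q _ (M1.mres Q _ _) = M1.mres Q _ (M1.mres Q _ _)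
        rw [M1.mres_mres, M1.mres_mres, ap_nat _ _ ⟨W'', hW''⟩ _ (h1.trans (hW'U _ _)) h1,
          ap_nat _ _ ⟨W'', hW''⟩ _ (h2.trans (hW'U _ _)) h2, rr_rr, rr_rr]
        exact hc _ _ _ _ _ _)
    refine ⟨t, fun j W'' h hj => section_ext_affine fun w hw => ?_⟩
    obtain ⟨W₃, hW₃, hw', hle⟩ := exists_isAffineOpen_mem_and_subset (U := W''.1 ⊓ (W' w (h hw)).1) (x := w)
      ⟨hw, hzW' w (h hw)⟩
    have h1 : W₃ ≤ W''.1 := fun b hb => (hle hb).1
    have h2 : W₃ ≤ (W' w (h hw)).1 := fun b hb => (hle hb).2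
    refine ⟨⟨W₃, hW₃⟩, h1, hw', ?_⟩
    rw [ap_nat _ _ ⟨W₃, hW₃⟩ _ (h1.trans hj) h1, rr_rr, M1.mres_mres,
      ← M1.mres_mres Q (hW'W w (h hw)) h2 t]
    have e : M1.mres Q (hW'W w (h hw)) t =
        ap (g := g) (Q := Q) (sf (i w (h hw))) (W' w (h hw)) (hW'U w (h hw)) (rr (hW'W w (h hw)) a) := ht ⟨w, h hw⟩
    rw [e, ap_nat _ _ ⟨W₃, hW₃⟩ _ (h2.trans (hW'U _ _)) h2, rr_rr]
    exact hc _ _ _ _ _ _
  choose t ht using hglue
  have key : ∀ (W : Idx (iSup U)) (a : Γ(X, W.1.1)) (t' : Γ(Q, W.1.1)),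
      (∀ i (W' : X.affineOpens) (h : W'.1 ≤ W.1.1) (hi : W'.1 ≤ U i),
        M1.mres Q h t' = ap (g := g) (Q := Q) (sf i) W' hi (rr h a)) → t W a = t' := by
    intro W a t' ht'
    refine section_ext_affine fun z hz => ?_
    obtain ⟨i, W', hz', h, hi⟩ := hloc W z hz
    exact ⟨W', h, hz', (ht W a i W' h hi).trans (ht' i W' h hi).symm⟩
  let δ : (W : Idx (iSup U)) → (Γ(X, W.1.1) →+ Γ(Q, W.1.1)) := fun W => AddMonoidHom.mk' (t W) fun a b =>
    key W _ _ fun i W' h hi => by rw [map_add, ht W a i W' h hi, ht W b i W' h hi, map_add, map_add]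
  have hδ : δ ∈ der g Q (iSup U) := by
    refine ⟨fun W a b => key W _ _ fun i W' h hi => ?_, fun W V e a => key W _ _ fun i W' h hi => ?_,
      fun W W₁ h a => (key W₁ _ _ fun i W' h' hi => ?_).symm⟩
    · show M1.mres Q h (a • t W b + b • t W a) = _
      rw [map_add, M1.mres_smul, M1.mres_smul, ht W a i W' h hi, ht W b i W' h hi, map_mul, ap_mul]
    · rw [map_zero]
      refine (Eq.trans ?_ (ap_base (g := g) (Q := Q) (sf i) W' hi V (h.trans e) a)).symm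
      refine congrArg _ ?_
      exact ConcreteCategory.congr_hom (g.appLE_map e (homOfLE h).op) a
    · show M1.mres Q h' (M1.mres Q h (t W a)) = _
      rw [M1.mres_mres, ht W a i W' (h'.trans h) hi, rr_rr]
  refine ⟨(⟨δ, hδ⟩ : der g Q (iSup U)), fun i => ?_, fun s hs => ?_⟩
  · refine ext' fun W hW a => ?_
    show t ⟨W, hW.trans (le_iSup U i)⟩ a = _
    have h1 := ht ⟨W, hW.trans (le_iSup U i)⟩ a i W le_rfl hW
    rw [M1.mres_id, rr_self] at h1
    exact h1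
  · refine ext' fun W hW a => (key ⟨W, hW⟩ a (ap (g := g) (Q := Q) s W hW a) fun i W' h hi => ?_).symm
    rw [ap_nat _ _ W' _ (hi.trans (le_iSup U i)) h]
    have e : res (g := g) (Q := Q) (le_iSup U i) s = sf i := hs i
    exact congrArg (fun δ => ap δ W' hi (rr h a)) e

/-- The sheaf of derivations. -/
noncomputable def derSh (g : X ⟶ S) (Q : X.Modules) : CohTop.Ab X.carrier := ⟨derFun g Q, isSheaf_derFun g Q⟩

/-- Derivations restricted from the functions of one affine open of the base kill all functions of the base. -/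
theorem mem_der_of_anchor (V₀ : S.affineOpens) (hU : U ≤ g ⁻¹ᵁ V₀.1)
    (δ : (W : Idx U) → (Γ(X, W.1.1) →+ Γ(Q, W.1.1))) (hmul : ∀ W a b, δ W (a * b) = a • δ W b + b • δ W a)
    (h0 : ∀ (W : Idx U) a, δ W (g.appLE V₀.1 W.1.1 (W.2.trans hU) a) = 0)
    (hnat : ∀ (W W' : Idx U) (h : W'.1.1 ≤ W.1.1) a, M1.mres Q h (δ W a) = δ W' (rr h a)) :
    δ ∈ der g Q U := by
  refine ⟨hmul, fun W V e a => section_ext_affine fun z hz => ?_, hnat⟩
  obtain ⟨r, hrV, hzr⟩ := V₀.2.exists_basicOpen_le (V := V.1) ⟨g z, e hz⟩ (hU (W.2 hz))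
  obtain ⟨W', hW', hz', hle⟩ := exists_isAffineOpen_mem_and_subset (U := W.1.1 ⊓ g ⁻¹ᵁ S.basicOpen r) (x := z)
    ⟨hz, hzr⟩
  have hWW : W' ≤ W.1.1 := fun b hb => (hle hb).1
  have hD : W' ≤ g ⁻¹ᵁ S.basicOpen r := fun b hb => (hle hb).2
  refine ⟨⟨W', hW'⟩, hWW, hz', ?_⟩
  rw [map_zero, hnat W ⟨⟨W', hW'⟩, hWW.trans W.2⟩ hWW]
  let W₁ : Idx U := ⟨⟨W', hW'⟩, hWW.trans W.2⟩
  letI := V₀.2.isLocalization_basicOpen r
  obtain ⟨⟨b, m⟩, hb⟩ := IsLocalization.surj (Submonoid.powers r) (S.presheaf.map (homOfLE hrV).op a)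
  obtain ⟨n, hn⟩ := m.2
  have hr : ∀ c : Γ(S, V₀.1), g.appLE V₀.1 W' (W₁.2.trans hU) c =
      g.appLE (S.basicOpen r) W' hD (S.presheaf.map (homOfLE (S.basicOpen_le r)).op c) := fun c =>
    (ConcreteCategory.congr_hom (g.map_appLE hD (homOfLE (S.basicOpen_le r)).op) c).symm
  have ha : rr hWW (g.appLE V.1 W.1.1 e a) =
      g.appLE (S.basicOpen r) W' hD (S.presheaf.map (homOfLE hrV).op a) :=
    (ConcreteCategory.congr_hom (g.appLE_map e (homOfLE hWW).op) a).trans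
      (ConcreteCategory.congr_hom (g.map_appLE hD (homOfLE hrV).op) a).symm
  have hmr : (m : Γ(S, V₀.1)) = r ^ n := hn.symm
  let α := rr hWW (g.appLE V.1 W.1.1 e a)
  have e1 : α * g.appLE V₀.1 W' (W₁.2.trans hU) (r ^ n) = g.appLE V₀.1 W' (W₁.2.trans hU) b := by
    rw [← hmr, hr b, hr]
    refine Eq.trans ?_ (congrArg (g.appLE (S.basicOpen r) W' hD).hom hb)
    refine Eq.trans ?_ (map_mul (g.appLE (S.basicOpen r) W' hD).hom _ _).symm
    exact congrArg (· * _) ha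
  have e2 := congrArg (δ W₁) e1
  rw [hmul, h0 W₁, h0 W₁, smul_zero, zero_add] at e2
  refine (IsUnit.smul_eq_zero ?_).1 e2
  rw [hr, map_pow, map_pow]
  exact (((RingedSpace.isUnit_res_basicOpen S.toRingedSpace r)).map
    (g.appLE (S.basicOpen r) W' hD).hom).pow n

end Groth.Agent.SmoothObs3
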