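import Groth.Agent.Lib.SmoothObs3.Data
import Groth.Agent.Lib.SmoothObs3.Cech
import Mathlib.AlgebraicGeometry.Cover.Directed

/-!
# Correcting and gluing local lifts
-/

set_option autoImplicit false
set_option linter.style.haveILetI false
set_option backward.isDefEq.respectTransparency false
set_option backward.isDefEq.respectTransparency.types false

universe u

open CategoryTheory CategoryTheory.Limits AlgebraicGeometry TopologicalSpace Opposite CategoryTheory.Abelian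

namespace Groth.Agent.SmoothObs3

variable {X B S : Scheme.{u}} {x : X ⟶ B} {i : B ⟶ S} {K : KerMod x i} {ι : Type u}

/-- Morphisms between local lifts forming a cocycle. -/
def IsCocycleHom (L : ι → LData K) (φ : ∀ a b, LHom (L a) (L b) ((L a).U.1 ⊓ (L b).U.1)) : Prop :=
  ∀ a b d (W : X.affineOpens) (ha : W.1 ≤ (L a).U.1) (hb : W.1 ≤ (L b).U.1) (hd : W.1 ≤ (L d).U.1) z,
    (φ a b).app W (le_inf ha hb) ((φ b d).app W (le_inf hb hd) z) = (φ a d).app W (le_inf ha hd) z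

theorem LHom.diff_symm {L L' : LData K} {O : X.Opens} (h h' : LHom L L' O) :
    LHom.diff h' h = - LHom.diff h h' := by
  rw [eq_neg_iff_add_eq_zero, LHom.diff_add_diff, LHom.diff_self]

theorem LHom.diff_comp_vadd {La Lb Ld : LData K} {O₁ O₂ O₃ O : X.Opens} (f : LHom La Lb O₁) (g : LHom Lb Ld O₂)
    (k : LHom La Ld O₃) (h₁ : O ≤ O₁) (h₂ : O ≤ O₂) (h₃ : O ≤ O₃) (s₁ : der (x ≫ i) K.J O₁)
    (s₂ : der (x ≫ i) K.J O₂) (s₃ : der (x ≫ i) K.J O₃) :
    LHom.diff (((f.vadd (-s₁)).res h₁).comp ((g.vadd (-s₂)).res h₂)) ((k.vadd (-s₃)).res h₃) =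
      LHom.diff ((f.res h₁).comp (g.res h₂)) (k.res h₃) -
        (SmoothObs3.res h₁ s₁ + SmoothObs3.res h₂ s₂ - SmoothObs3.res h₃ s₃) := by
  have e1 : LHom.diff (((f.vadd (-s₁)).res h₁).comp ((g.vadd (-s₂)).res h₂)) ((f.res h₁).comp (g.res h₂)) =
      -(SmoothObs3.res h₁ s₁) + -(SmoothObs3.res h₂ s₂) :=
    (LHom.diff_comp _ _ _ _).trans (congrArg₂ (· + ·)
      (((LHom.diff_res (f.vadd (-s₁)) f h₁).trans (congrArg (SmoothObs3.res h₁) (LHom.diff_vadd f (-s₁)))).trans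
        ((SmoothObs3.res h₁).map_neg s₁))
      (((LHom.diff_res (g.vadd (-s₂)) g h₂).trans (congrArg (SmoothObs3.res h₂) (LHom.diff_vadd g (-s₂)))).trans
        ((SmoothObs3.res h₂).map_neg s₂)))
  have e2 : LHom.diff (k.res h₃) ((k.vadd (-s₃)).res h₃) = SmoothObs3.res h₃ s₃ :=
    (LHom.diff_res k (k.vadd (-s₃)) h₃).trans (congrArg (SmoothObs3.res h₃)
      ((LHom.diff_symm (k.vadd (-s₃)) k).trans ((congrArg Neg.neg (LHom.diff_vadd k (-s₃))).trans (neg_neg s₃))))
  have e3 := LHom.diff_add_diff (((f.vadd (-s₁)).res h₁).comp ((g.vadd (-s₂)).res h₂)) ((f.res h₁).comp (g.res h₂))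
    (k.res h₃)
  have e4 := LHom.diff_add_diff (((f.vadd (-s₁)).res h₁).comp ((g.vadd (-s₂)).res h₂)) (k.res h₃)
    ((k.vadd (-s₃)).res h₃)
  refine (e4.symm.trans (congrArg₂ (· + ·) (e3.symm.trans (congrArg (· + _) e1)) e2)).trans ?_
  abel

section obs

variable [QuasiSeparated x] [IsClosedImmersion i] [Smooth x] [X.IsSeparated]

theorem exists_cocycleHom_of
    (hB : ∀ (U : ι → X.affineOpens), (⨆ a, (U a).1 = ⊤) → (∀ a, Sub x i (U a)) →
      ∀ (c : ∀ a b d, der (x ≫ i) K.J ((U a).1 ⊓ (U b).1 ⊓ (U d).1)),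
        (∀ a b d m (O : X.Opens) (ha : O ≤ (U a).1) (hb : O ≤ (U b).1) (hd : O ≤ (U d).1) (hm : O ≤ (U m).1),
          res (le_inf (le_inf hb hd) hm) (c b d m) + res (le_inf (le_inf ha hb) hm) (c a b m) =
            res (le_inf (le_inf ha hd) hm) (c a d m) + res (le_inf (le_inf ha hb) hd) (c a b d)) →
        ∃ s : ∀ a b, der (x ≫ i) K.J ((U a).1 ⊓ (U b).1), ∀ a b d, bd (fun a => (U a).1) s a b d = c a b d)
    (L : ι → LData K) (hcov : ⨆ a, (L a).U.1 = ⊤) :
    ∃ φ : ∀ a b, LHom (L a) (L b) ((L a).U.1 ⊓ (L b).U.1), IsCocycleHom L φ := by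
  let φ : ∀ a b, LHom (L a) (L b) ((L a).U.1 ⊓ (L b).U.1) := fun a b =>
    (LHom.exists_hom (L a) (L b) ⟨_, IsAffineOpen.inf (L a).U.2 (L b).U.2⟩ inf_le_left inf_le_right).some
  let U : ι → X.affineOpens := fun a => (L a).U
  let c : ∀ a b d, der (x ≫ i) K.J ((U a).1 ⊓ (U b).1 ⊓ (U d).1) := fun a b d =>
    LHom.diff (((φ a b).res inf_le_left).comp ((φ b d).res (inf_le_inf_right _ inf_le_right)))
      ((φ a d).res (inf_le_inf_right _ inf_le_left))
  have hcO : ∀ a b d (O : X.Opens) (ha : O ≤ (U a).1) (hb : O ≤ (U b).1) (hd : O ≤ (U d).1),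
      res (le_inf (le_inf ha hb) hd) (c a b d) =
        LHom.diff (((φ a b).res (le_inf ha hb)).comp ((φ b d).res (le_inf hb hd))) ((φ a d).res (le_inf ha hd)) :=
    fun a b d O ha hb hd => (LHom.diff_res _ _ (le_inf (le_inf ha hb) hd)).symm
  obtain ⟨s, hs⟩ := hB U hcov (fun a => ⟨(L a).V₀, (L a).le⟩) c
    fun a b d m O ha hb hd hm => by
      rw [hcO b d m O hb hd hm, hcO a b m O ha hb hm, hcO a d m O ha hd hm, hcO a b d O ha hb hd]
      let AB := (φ a b).res (le_inf ha hb)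
      let BD := (φ b d).res (le_inf hb hd)
      let DM := (φ d m).res (le_inf hd hm)
      let BM := (φ b m).res (le_inf hb hm)
      let AD := (φ a d).res (le_inf ha hd)
      let AM := (φ a m).res (le_inf ha hm)
      show LHom.diff (BD.comp DM) BM + LHom.diff (AB.comp BM) AM =
        LHom.diff (AD.comp DM) AM + LHom.diff (AB.comp BD) AD
      have e1 : LHom.diff (AB.comp (BD.comp DM)) (AB.comp BM) = LHom.diff (BD.comp DM) BM := by
        rw [LHom.diff_comp, LHom.diff_self, zero_add]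
      have e2 : LHom.diff ((AB.comp BD).comp DM) (AD.comp DM) = LHom.diff (AB.comp BD) AD := by
        rw [LHom.diff_comp, LHom.diff_self, add_zero]
      rw [← e1, ← e2, LHom.diff_add_diff, add_comm, LHom.diff_add_diff]
      rfl
  let ψ : ∀ a b, LHom (L a) (L b) ((L a).U.1 ⊓ (L b).U.1) := fun a b => (φ a b).vadd (-(s a b))
  refine ⟨ψ, fun a b d W ha hb hd z => ?_⟩
  let O : X.Opens := (U a).1 ⊓ (U b).1 ⊓ (U d).1
  let h₁ : O ≤ (U a).1 ⊓ (U b).1 := inf_le_left
  let h₂ : O ≤ (U b).1 ⊓ (U d).1 := inf_le_inf_right _ inf_le_right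
  let h₃ : O ≤ (U a).1 ⊓ (U d).1 := inf_le_inf_right _ inf_le_left
  have key : LHom.diff (((ψ a b).res h₁).comp ((ψ b d).res h₂)) ((ψ a d).res h₃) = 0 :=
    (LHom.diff_comp_vadd (φ a b) (φ b d) (φ a d) h₁ h₂ h₃ (s a b) (s b d) (s a d)).trans
      (sub_eq_zero.2 (hs a b d).symm)
  exact LHom.app_eq_of_diff key W (le_inf (le_inf ha hb) hd) z

theorem exists_cocycleHom [HasExt.{u} X.Modules] (hJ : Coh.IsQCoh K.J)
    (h2 : Subsingleton (Ext.{u} (Omega.sheaf x) K.J 2)) (L : ι → LData K) (hcov : ⨆ a, (L a).U.1 = ⊤) :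
    ∃ φ : ∀ a b, LHom (L a) (L b) ((L a).U.1 ⊓ (L b).U.1), IsCocycleHom L φ :=
  exists_cocycleHom_of (fun U hcov hsub c hc => exists_boundary hJ h2 U hcov hsub c hc) L hcov

end obs

section glue

/-- Affine opens of a member of the cover. -/
structure Pr (L : ι → LData K) : Type u where
  /-- the member of the cover -/
  a : ι
  /-- the affine open -/
  W : X.affineOpens
  le : W.1 ≤ (L a).U.1

instance (L : ι → LData K) : Preorder (Pr L) := Preorder.lift fun p : Pr L => (p.W.1 : X.Opens)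

variable {L : ι → LData K} (φ : ∀ a b, LHom (L a) (L b) ((L a).U.1 ⊓ (L b).U.1)) (hφ : IsCocycleHom L φ)

include hφ in
theorem app_self (a : ι) (W : X.affineOpens) (hW : W.1 ≤ (L a).U.1) (z : (L a).A W) :
    (φ a a).app W (le_inf hW hW) z = z := by
  have h0 : LHom.diff ((φ a a).comp (φ a a)) (φ a a) = 0 :=
    LHom.diff_eq fun W' hW' z' => by
      rw [ap_zero, map_zero, eq_comm, sub_eq_zero]
      exact hφ a a a W' (hW'.trans inf_le_left) (hW'.trans inf_le_left) (hW'.trans inf_le_left) z'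
  let I := LHom.id (L a) ((L a).U.1 ⊓ (L a).U.1) inf_le_left
  have h1 : LHom.diff ((φ a a).comp (φ a a)) ((φ a a).comp I) = 0 := by
    rw [← h0]
    rfl
  rw [LHom.diff_comp, LHom.diff_self, zero_add] at h1
  exact LHom.app_eq_of_diff h1 W (le_inf hW hW) z

/-- The transition map. -/
noncomputable def phi {p q : Pr L} (h : p ≤ q) : (L q.a).A q.W →+* (L p.a).A p.W :=
  ((φ p.a q.a).app p.W (le_inf p.le (le_trans h q.le))).comp ((L q.a).rs h)

theorem phi_apply {p q : Pr L} (h : p ≤ q) (z : (L q.a).A q.W) :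
    phi φ h z = (φ p.a q.a).app p.W (le_inf p.le (le_trans h q.le)) ((L q.a).rs h z) := rfl

theorem q_phi {p q : Pr L} (h : p ≤ q) (z : (L q.a).A q.W) :
    (L p.a).q p.W p.le (phi φ h z) = rr h ((L q.a).q q.W q.le z) := by
  rw [phi_apply]
  refine ((φ p.a q.a).q_app p.W (le_inf p.le (le_trans h q.le)) _).trans ?_
  exact (L q.a).q_rs q.le (le_trans h q.le) h z

include hφ in
theorem phi_id (p : Pr L) (z : (L p.a).A p.W) : phi φ (le_refl p) z = z := by
  rw [phi_apply, LData.rs_self, app_self φ hφ p.a p.W p.le]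

include hφ in
theorem phi_comp {p q r : Pr L} (h : p ≤ q) (h' : q ≤ r) (z : (L r.a).A r.W) :
    phi φ h (phi φ h' z) = phi φ (h.trans h') z := by
  rw [phi_apply, phi_apply, (φ q.a r.a).nat q.W _ p.W (le_inf (le_trans h q.le) (le_trans (h.trans h') r.le)) h,
    LData.rs_rs]
  exact hφ p.a q.a r.a p.W p.le (le_trans h q.le) (le_trans (h.trans h') r.le) _

/-- The diagram of charts. -/
noncomputable def diag : Pr L ⥤ Scheme.{u} where
  obj p := Spec ((L p.a).A p.W)
  map {p q} h := Spec.map (CommRingCat.ofHom (phi φ (leOfHom h)))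
  map_id p := by
    rw [show CommRingCat.ofHom (phi φ (leOfHom (𝟙 p))) = 𝟙 ((L p.a).A p.W) from
      CommRingCat.hom_ext (RingHom.ext fun z => phi_id φ hφ p z)]
    exact Spec.map_id _
  map_comp {p q r} h h' := by
    rw [← Spec.map_comp, ← CommRingCat.ofHom_comp]
    exact congrArg (fun f => Spec.map (CommRingCat.ofHom f))
      (RingHom.ext fun z => (phi_comp φ hφ (leOfHom h) (leOfHom h') z).symm)

theorem isOpenImmersion_map {p q : Pr L} (h : p ⟶ q) : IsOpenImmersion ((diag φ hφ).map h) := by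
  show IsOpenImmersion (Spec.map (CommRingCat.ofHom (phi φ (leOfHom h))))
  rw [show phi φ (leOfHom h) = ((φ p.a q.a).app p.W (le_inf p.le (le_trans (leOfHom h) q.le))).comp
    ((L q.a).rs (leOfHom h)) from rfl, CommRingCat.ofHom_comp, Spec.map_comp]
  haveI := (L q.a).open_rs (leOfHom h) q.le
  let hq : p.W.1 ≤ (L q.a).U.1 := le_trans (leOfHom h) q.le
  haveI : IsIso (CommRingCat.ofHom ((φ p.a q.a).app p.W (le_inf p.le hq))) := by
    refine (ConcreteCategory.isIso_iff_bijective _).2 (Function.bijective_iff_has_inverse.2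
      ⟨(φ q.a p.a).app p.W (le_inf hq p.le), fun z => ?_, fun z => ?_⟩)
    · exact (hφ q.a p.a q.a p.W hq p.le hq z).trans (app_self φ hφ q.a p.W hq z)
    · exact (hφ p.a q.a p.a p.W p.le hq p.le z).trans (app_self φ hφ p.a p.W p.le z)
  infer_instance

/-- The closed fibre of a chart. -/
noncomputable def jW (p : Pr L) : p.W.1.toScheme ⟶ Spec ((L p.a).A p.W) :=
  p.W.2.isoSpec.hom ≫ Spec.map (CommRingCat.ofHom ((L p.a).q p.W p.le))

theorem isPullback_jW (p : Pr L) : IsPullback (jW p) (p.W.1.ι ≫ x) ((L p.a).ψ p.W p.le) i := by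
  refine IsPullback.of_iso ((L p.a).isPullback p.W p.le) p.W.2.isoSpec.symm (Iso.refl _) (Iso.refl _) (Iso.refl _)
    ?_ ?_ ?_ ?_
  · simp only [Iso.refl_hom, Category.comp_id, Iso.symm_hom, jW, Iso.inv_hom_id_assoc]
  · simp only [Iso.refl_hom, Category.comp_id, Iso.symm_hom, IsAffineOpen.isoSpec_inv_ι_assoc]
  · simp only [Iso.refl_hom, Category.comp_id, Category.id_comp]
  · simp only [Iso.refl_hom, Category.comp_id, Category.id_comp]

theorem jW_map {p q : Pr L} (h : p ⟶ q) :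
    jW p ≫ (diag φ hφ).map h = X.homOfLE (leOfHom h) ≫ jW q := by
  show (p.W.2.isoSpec.hom ≫ _) ≫ Spec.map _ = X.homOfLE (leOfHom h) ≫ q.W.2.isoSpec.hom ≫ _
  rw [Category.assoc, ← Spec.map_comp,
    show CommRingCat.ofHom (phi φ (leOfHom h)) ≫ CommRingCat.ofHom ((L p.a).q p.W p.le) =
      CommRingCat.ofHom ((L q.a).q q.W q.le) ≫ X.presheaf.map (homOfLE (leOfHom h)).op from
      CommRingCat.hom_ext (RingHom.ext fun z => q_phi φ (leOfHom h) z), Spec.map_comp, ← Category.assoc,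
    ← Category.assoc (X.homOfLE (leOfHom h))]
  refine congrArg (· ≫ Spec.map _) ?_
  rw [← cancel_mono q.W.2.fromSpec, Category.assoc, Category.assoc, IsAffineOpen.map_fromSpec _ p.W.2,
    IsAffineOpen.isoSpec_hom_fromSpec, IsAffineOpen.isoSpec_hom_fromSpec, Scheme.homOfLE_ι]

include hφ in
theorem psi_map {p q : Pr L} (h : p ≤ q) :
    Spec.map (CommRingCat.ofHom (phi φ h)) ≫ (L q.a).ψ q.W q.le = (L p.a).ψ p.W p.le := by
  have hq : p.W.1 ≤ (L q.a).U.1 := le_trans h q.le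
  have e := hq.trans (L q.a).le
  rw [show phi φ h = ((φ p.a q.a).app p.W (le_inf p.le hq)).comp ((L q.a).rs h) from rfl, CommRingCat.ofHom_comp,
    Spec.map_comp, Category.assoc, (L q.a).ψ_rs q.le hq h, ← (L q.a).ψ_str (L q.a).V₀ p.W hq e,
    ← (L p.a).ψ_str (L q.a).V₀ p.W p.le e, ← Category.assoc, ← Spec.map_comp]
  refine congrArg (fun f => Spec.map f ≫ _) (CommRingCat.hom_ext (RingHom.ext fun c => ?_))
  exact (φ p.a q.a).app_str p.W (le_inf p.le hq) _ e c

theorem hom_ext_le {Z T : Scheme.{u}} {κ : Type u} (V : κ → Z.Opens) {O : Z.Opens} (hle : ∀ j, V j ≤ O)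
    (hcov : O ≤ ⨆ j, V j) (a b : (O : Scheme.{u}) ⟶ T) (h : ∀ j, Z.homOfLE (hle j) ≫ a = Z.homOfLE (hle j) ≫ b) :
    a = b := by
  obtain rfl : O = ⨆ j, V j := le_antisymm hcov (iSup_le hle)
  exact (Scheme.Opens.iSupOpenCover V).hom_ext _ _ fun j => h j

include hφ in
/-- The glued lift. -/
theorem exists_glued [IsClosedImmersion i] [Surjective i] (hcov : ⨆ a, (L a).U.1 = ⊤) :
    ∃ (T : Scheme.{u}) (f : T ⟶ S) (j : X ⟶ T), Smooth f ∧ IsPullback j x f i := by
  have hPr : ⨆ p : Pr L, (p.W.1 : X.Opens) = ⊤ := top_le_iff.1 fun z _ => by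
    obtain ⟨a, ha⟩ := Opens.mem_iSup.1 (hcov.ge (Opens.mem_top z))
    exact Opens.mem_iSup.2 ⟨⟨a, (L a).U, le_refl _⟩, ha⟩
  have hsurj : ∀ p : Pr L, Surjective (jW p) := fun p =>
    MorphismProperty.of_isPullback (isPullback_jW p).flip (inferInstance : Surjective i)
  have hclosed : ∀ p : Pr L, IsClosedImmersion (jW p) := fun p =>
    MorphismProperty.of_isPullback (isPullback_jW p).flip (inferInstance : IsClosedImmersion i)
  let F := diag φ hφ
  haveI : ∀ {p q : Pr L} (h : p ⟶ q), IsOpenImmersion (F.map h) := fun h => isOpenImmersion_map φ hφ h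
  haveI : (F ⋙ Scheme.forget).IsLocallyDirected := ⟨fun {p q r} fp fq xp xq hx => by
    obtain ⟨zp, rfl⟩ := (hsurj p).surj xp
    obtain ⟨zq, rfl⟩ := (hsurj q).surj xq
    haveI := hclosed r
    have hx' : (jW p ≫ F.map fp) zp = (jW q ≫ F.map fq) zq := hx
    rw [jW_map φ hφ fp, jW_map φ hφ fq] at hx'
    have hz : X.homOfLE (leOfHom fp) zp = X.homOfLE (leOfHom fq) zq := (jW r).isClosedEmbedding.injective hx'
    have hz' : (zp.1 : X) = zq.1 :=
      (Scheme.homOfLE_apply _ zp).symm.trans ((congrArg Subtype.val hz).trans (Scheme.homOfLE_apply _ zq))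
    obtain ⟨W, hW, hzW, hWle⟩ := exists_isAffineOpen_mem_and_subset (U := p.W.1 ⊓ q.W.1) (x := zp.1)
      ⟨zp.2, hz' ▸ zq.2⟩
    let o : Pr L := ⟨p.a, ⟨W, hW⟩, fun z hz => p.le (hWle hz).1⟩
    have lp : o ≤ p := fun z hz => (hWle hz).1
    have lq : o ≤ q := fun z hz => (hWle hz).2
    refine ⟨o, homOfLE lp, homOfLE lq, jW o ⟨zp.1, hzW⟩, ?_, ?_⟩
    · show (jW o ≫ F.map (homOfLE lp)) ⟨zp.1, hzW⟩ = jW p zp
      rw [jW_map]
      exact congrArg (jW p) (Subtype.ext (Scheme.homOfLE_apply _ _))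
    · show (jW o ≫ F.map (homOfLE lq)) ⟨zp.1, hzW⟩ = jW q zq
      rw [jW_map]
      exact congrArg (jW q) (Subtype.ext ((Scheme.homOfLE_apply _ _).trans hz'))⟩
  let Z := colimit F
  haveI hι : ∀ p : Pr L, IsOpenImmersion (colimit.ι F p) := fun p => (Scheme.IsLocallyDirected.openCover F).map_prop p
  let j : X ⟶ Z := (Scheme.openCoverOfIsOpenCover X (fun p : Pr L => p.W.1) hPr).glueMorphisms
    (fun p => jW p ≫ colimit.ι F p) fun (p q : Pr L) => by
      have hp := isPullback_opens_inf p.W.1 q.W.1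
      change pullback.fst p.W.1.ι q.W.1.ι ≫ _ = pullback.snd p.W.1.ι q.W.1.ι ≫ _
      rw [← cancel_epi hp.isoPullback.hom, IsPullback.isoPullback_hom_fst_assoc,
        IsPullback.isoPullback_hom_snd_assoc]
      have hc : ∀ z : (p.W.1 ⊓ q.W.1 : X.Opens), ∃ r : Pr L, (z : X) ∈ r.W.1 ∧ r ≤ p ∧ r ≤ q := fun z => by
        obtain ⟨W, hW, hz, hle⟩ := exists_isAffineOpen_mem_and_subset z.2
        exact ⟨⟨p.a, ⟨W, hW⟩, fun a ha => p.le (hle ha).1⟩, hz, fun a ha => (hle ha).1, fun a ha => (hle ha).2⟩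
      choose r hzr hrp hrq using hc
      refine hom_ext_le (fun z => (r z).W.1) (fun z => le_inf (hrp z) (hrq z))
        (fun z hz => Opens.mem_iSup.2 ⟨⟨z, hz⟩, hzr _⟩) _ _ fun z => ?_
      have e : ∀ (p : Pr L) (h : r z ≤ p), X.homOfLE h ≫ jW p ≫ colimit.ι F p =
          jW (r z) ≫ colimit.ι F (r z) := fun p h =>
        (Category.assoc _ _ _).symm.trans ((congrArg (· ≫ colimit.ι F p) (jW_map φ hφ (homOfLE h)).symm).trans
          ((Category.assoc _ _ _).trans (congrArg _ (colimit.w F (homOfLE h)))))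
      rw [Scheme.homOfLE_homOfLE_assoc, Scheme.homOfLE_homOfLE_assoc]
      exact (e p (hrp z)).trans (e q (hrq z)).symm
  have hj : ∀ p : Pr L, p.W.1.ι ≫ j = jW p ≫ colimit.ι F p := fun p =>
    Scheme.Cover.ι_glueMorphisms (Scheme.openCoverOfIsOpenCover X (fun p : Pr L => p.W.1) hPr) _ _ p
  let f : Z ⟶ S := colimit.desc F
    { pt := S
      ι := { app := fun p => (L p.a).ψ p.W p.le
             naturality := fun p q h => by
              show Spec.map _ ≫ (L q.a).ψ q.W q.le = (L p.a).ψ p.W p.le ≫ 𝟙 _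
              rw [Category.comp_id, psi_map φ hφ] } }
  have hf : ∀ p : Pr L, colimit.ι F p ≫ f = (L p.a).ψ p.W p.le := fun p => colimit.ι_desc _ p
  have hsm : Smooth f := by
    refine IsZariskiLocalAtSource.of_openCover (P := @Smooth) (Scheme.IsLocallyDirected.openCover F) fun p => ?_
    change Smooth (colimit.ι F p ≫ f)
    rw [hf]
    exact (L p.a).smooth_ψ p.W p.le
  have hpb : ∀ p : Pr L, IsPullback p.W.1.ι (jW p) j (colimit.ι F p) := fun p => by
    let c : Spec ((L p.a).A p.W) ⟶ Z := colimit.ι F p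
    haveI : IsOpenImmersion c := hι p
    refine (IsOpenImmersion.isPullback (jW p) p.W.1.ι c j (hj p) ?_).flip
    refine Opens.ext (Set.Subset.antisymm ?_ ?_)
    · rintro z ⟨w, hw⟩
      replace hw : colimit.ι F p w = j z := hw
      rw [Scheme.Opens.opensRange_ι]
      obtain ⟨q, hq⟩ := Opens.mem_iSup.1 (hPr.ge (Opens.mem_top z))
      have hz : colimit.ι F q (jW q ⟨z, hq⟩) = colimit.ι F p w := by
        exact ((congrArg (fun m : q.W.1.toScheme ⟶ Z => m ⟨z, hq⟩) (hj q)).symm.trans rfl).trans hw.symm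
      obtain ⟨r, fq, fp, y, hy, -⟩ := (Scheme.IsLocallyDirected.ι_eq_ι_iff F).1 hz
      obtain ⟨a, rfl⟩ := (hsurj r).surj y
      haveI := hclosed q
      have ha : (jW r ≫ F.map fq) a = jW q ⟨z, hq⟩ := hy
      rw [jW_map φ hφ fq] at ha
      have haz : (a.1 : X) = z := (Scheme.homOfLE_apply _ a).symm.trans
        (congrArg Subtype.val ((jW q).isClosedEmbedding.injective ha))
      exact haz ▸ leOfHom fp a.2
    · rintro _ ⟨a, rfl⟩
      exact ⟨jW p a, by rw [← Scheme.Hom.comp_apply, ← hj p]; rfl⟩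
  refine ⟨Z, f, j, hsm, Scheme.isPullback_of_openCover j x f i (Scheme.IsLocallyDirected.openCover F) fun p => ?_⟩
  have hpb' := hpb p
  refine IsPullback.of_iso (isPullback_jW p) hpb'.isoPullback (Iso.refl _) (Iso.refl _) (Iso.refl _) ?_ ?_ ?_ ?_
  · show jW p ≫ 𝟙 _ = hpb'.isoPullback.hom ≫ pullback.snd _ _
    rw [Category.comp_id, IsPullback.isoPullback_hom_snd]
  · show (p.W.1.ι ≫ x) ≫ 𝟙 _ = hpb'.isoPullback.hom ≫ pullback.fst _ _ ≫ x
    rw [Category.comp_id, IsPullback.isoPullback_hom_fst_assoc]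
  · show (L p.a).ψ p.W p.le ≫ 𝟙 _ = 𝟙 _ ≫ colimit.ι F p ≫ f
    rw [Category.comp_id, Category.id_comp, hf]
  · simp

end glue

end Groth.Agent.SmoothObs3
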