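import Groth.Agent.Lib.SmoothObs3.Der
import Groth.Agent.Lib.Omega12.Universal
import Groth.Agent.Lib.DMV.Counit
import Groth.Agent.Lib.CohFound.Flasque
import Mathlib.RingTheory.Etale.Kaehler
import Mathlib.AlgebraicGeometry.Morphisms.Etale
import Mathlib.AlgebraicGeometry.Morphisms.Smooth
import Mathlib.AlgebraicGeometry.Morphisms.ClosedImmersion
import Mathlib.CategoryTheory.Preadditive.Injective.Basic

/-!
# Derivations and morphisms out of the sheaf of differentials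
-/

set_option autoImplicit false
set_option linter.style.haveILetI false
set_option backward.isDefEq.respectTransparency false
set_option backward.isDefEq.respectTransparency.types false

universe u

open CategoryTheory CategoryTheory.Limits AlgebraicGeometry TopologicalSpace Opposite
open scoped TensorProduct

namespace Groth.Agent.SmoothObs3

variable {X B S : Scheme.{u}} (x : X ⟶ B) [QuasiSeparated x] (i : B ⟶ S) {Q : X.Modules}

theorem etale_res {U V : X.Opens} (hU : IsAffineOpen U) (hV : IsAffineOpen V) (h : V ≤ U) :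
    (rr (X := X) h).Etale := by
  have h1 := HasRingHomProperty.appLE @Etale (𝟙 X) inferInstance ⟨U, hU⟩ ⟨V, hV⟩ h
  have e : (𝟙 X : X ⟶ X).appLE U V h = X.presheaf.map (homOfLE h).op := by
    simp [Scheme.Hom.appLE]
  rwa [e] at h1

/-- Affine opens lying over affine opens of the ambient base. -/
def Sub (W : X.affineOpens) : Prop := ∃ V : S.affineOpens, W.1 ≤ (x ≫ i) ⁻¹ᵁ V.1

omit [QuasiSeparated x] in
theorem exists_sub (O : X.Opens) (z : X) (hz : z ∈ O) :
    ∃ W : X.affineOpens, Sub x i W ∧ z ∈ W.1 ∧ W.1 ≤ O := by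
  obtain ⟨V, hV, hzV, -⟩ := exists_isAffineOpen_mem_and_subset (U := (⊤ : S.Opens)) (x := (x ≫ i) z) trivial
  obtain ⟨W, hW, hzW, hle⟩ := exists_isAffineOpen_mem_and_subset (U := O ⊓ (x ≫ i) ⁻¹ᵁ V) (x := z) ⟨hz, hzV⟩
  exact ⟨⟨W, hW⟩, ⟨⟨V, hV⟩, fun a ha => (hle ha).2⟩, hzW, fun a ha => (hle ha).1⟩

/-- Families of derivations agreeing on the affine opens over affine opens of the base agree. -/
theorem ext_sub {U : X.Opens} {δ ε : der (x ≫ i) Q U}
    (h : ∀ W hW a, Sub x i W → ap δ W hW a = ap ε W hW a) : δ = ε :=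
  ext' fun W hW a => section_ext_affine fun z hz => by
    obtain ⟨W', hs, hz', hle⟩ := exists_sub x i W.1 z hz
    refine ⟨W', hle, hz', ?_⟩
    rw [ap_nat δ W W' hW (hle.trans hW) hle, ap_nat ε W W' hW (hle.trans hW) hle, h W' _ _ hs]

theorem dSect_appLE' (V : B.Opens) (W : X.Opens) (e : W ≤ x ⁻¹ᵁ V) (a : Γ(B, V)) :
    OmegaSh.dSect x W (x.appLE V W e a) = 0 := by
  refine (OmegaSh.dSect_map x e (x.app V a)).trans ?_
  rw [OmegaSh.dSect_app]
  exact map_zero _

/-- The derivation of a morphism out of the differentials. -/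
noncomputable def ofHom (α : Omega.sheaf x ⟶ Q) (U : X.Opens) : der (x ≫ i) Q U :=
  ⟨fun W => AddMonoidHom.mk' (fun s => α.app W.1.1 (OmegaSh.dSect x W.1.1 s))
      fun a b => by rw [OmegaSh.dSect_add, map_add],
    fun W a b => by
      show α.app _ (OmegaSh.dSect x _ (a * b)) = _
      rw [OmegaSh.dSect_mul, map_add, Scheme.Modules.Hom.app_smul, Scheme.Modules.Hom.app_smul]
      rfl,
    fun W V e a => by
      show α.app _ (OmegaSh.dSect x _ _) = 0
      have h : (x ≫ i).appLE V.1 W.1.1 e a = x.appLE (i ⁻¹ᵁ V.1) W.1.1 e (i.app V.1 a) :=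
        ConcreteCategory.congr_hom (Scheme.Hom.comp_appLE x i V.1 W.1.1 e) a
      rw [h, dSect_appLE', map_zero],
    fun W W' h a => by
      show M1.mres Q h (α.app _ (OmegaSh.dSect x _ a)) = α.app _ (OmegaSh.dSect x _ _)
      rw [OmegaSh.dSect_map x h a]
      exact (M1.app_mres α h _).symm⟩

theorem ap_ofHom (α : Omega.sheaf x ⟶ Q) (U : X.Opens) (W : X.affineOpens) (hW : W.1 ≤ U) (s : Γ(X, W.1)) :
    ap (ofHom x i α U) W hW s = α.app W.1 (OmegaSh.dSect x W.1 s) := rfl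

theorem res_ofHom (α : Omega.sheaf x ⟶ Q) {U U' : X.Opens} (h : U' ≤ U) :
    res h (ofHom x i α U) = ofHom x i α U' := rfl

theorem post_ofHom {Q' : X.Modules} (φ : Q ⟶ Q') (α : Omega.sheaf x ⟶ Q) (U : X.Opens) :
    post φ U (ofHom x i α U) = ofHom x i (α ≫ φ) U := rfl

variable [IsClosedImmersion i]

/-- The linear map on the differentials over an affine open given by a derivation. -/
theorem exists_lin {U : X.Opens} (δ : der (x ≫ i) Q U) (W : X.affineOpens) (hW : W.1 ≤ U) (hs : Sub x i W) :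
    ∃ l : Γ(Omega.sheaf x, W.1) →+ Γ(Q, W.1), (∀ (r : Γ(X, W.1)) m, l (r • m) = r • l m) ∧
      ∀ s, l (OmegaSh.dSect x W.1 s) = ap δ W hW s := by
  obtain ⟨V, e⟩ := hs
  let T := OmAff.toSect x (i ⁻¹ᵁ V.1) W.1 e
  haveI : IsIso T := (ConcreteCategory.isIso_iff_bijective T).2
    (Omega12.bijective_toSect x W.2 (V.2.preimage i) e)
  let dd : (OmAff.sectMod Q W.1).Derivation (x.appLE (i ⁻¹ᵁ V.1) W.1 e) :=
    ModuleCat.Derivation.mk (fun b => (ap δ W hW b : Γ(Q, W.1))) (fun a b => map_add _ a b) (ap_mul δ W hW) fun c => by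
      obtain ⟨a, rfl⟩ := i.app_surjective V.1 V.2 c
      rw [show x.appLE (i ⁻¹ᵁ V.1) W.1 e (i.app V.1 a) = (x ≫ i).appLE V.1 W.1 e a from
        (ConcreteCategory.congr_hom (Scheme.Hom.comp_appLE x i V.1 W.1 e) a).symm]
      exact ap_base δ W hW V e a
  let L := inv T ≫ dd.desc
  refine ⟨L.hom.toAddMonoidHom, fun r m => L.hom.map_smul r m, fun s => ?_⟩
  show (inv T ≫ dd.desc) (OmegaSh.dSect x W.1 s) = _
  rw [← OmAff.toSect_d x (i ⁻¹ᵁ V.1) W.1 e s, ← CategoryTheory.comp_apply, IsIso.hom_inv_id_assoc]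
  exact dd.desc_d s

theorem lin_ext {W : X.affineOpens} (hs : Sub x i W) {A : Type u} [AddCommGroup A]
    {R : Type u} [CommRing R] [Module R A] (σ : Γ(X, W.1) →+* R) (l l' : Γ(Omega.sheaf x, W.1) →+ A)
    (hl : ∀ r z, l (r • z) = σ r • l z) (hl' : ∀ r z, l' (r • z) = σ r • l' z)
    (hd : ∀ b, l (OmegaSh.dSect x W.1 b) = l' (OmegaSh.dSect x W.1 b)) : l = l' := by
  obtain ⟨V, e⟩ := hs
  exact Omega12.sect_ext x W.2 (V.2.preimage i) e σ l l' hl hl' hd

/-- A derivation family on everything is induced by a morphism. -/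
theorem exists_hom (δ : der (x ≫ i) Q ⊤) : ∃ α : Omega.sheaf x ⟶ Q, ofHom x i α ⊤ = δ := by
  choose l hsmul hl using fun W hs => exists_lin x i δ W le_top hs
  obtain ⟨φ, hφ⟩ := KoszShH13.exists_glue (P := Sub x i) (fun O z hz => exists_sub x i O z hz) l hsmul
    fun W hW W' hW' hle m => by
      refine DFunLike.congr_fun (lin_ext x i hW (rr hle)
        ((M1.mres Q hle).hom.comp (l W hW)) ((l W' hW').comp (M1.mres (Omega.sheaf x) hle).hom) ?_ ?_ ?_) m
      · intro r m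
        show M1.mres Q hle (l W hW (r • m)) = _
        rw [hsmul, M1.mres_smul]
        rfl
      · intro r m
        show l W' hW' (M1.mres _ hle (r • m)) = _
        rw [M1.mres_smul, hsmul]
        rfl
      · intro b
        show M1.mres Q hle (l W hW (OmegaSh.dSect x W.1 b)) = l W' hW' (M1.mres _ hle (OmegaSh.dSect x W.1 b))
        rw [hl, show M1.mres (Omega.sheaf x) hle (OmegaSh.dSect x W.1 b) = OmegaSh.dSect x W'.1 (rr hle b) from
          (OmegaSh.dSect_map x hle b).symm, hl]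
        exact ap_nat δ W W' _ _ hle b
  refine ⟨φ, ext_sub x i fun W hW a hs => ?_⟩
  rw [ap_ofHom, hφ W hs, hl]

variable {x i}

/-- Derivations into an injective module extend. -/
theorem exists_extend [Injective Q] {U : X.Opens} (δ : der (x ≫ i) Q U) :
    ∃ α : Omega.sheaf x ⟶ Q, ofHom x i α U = δ := by
  let R := Scheme.Modules.restrictFunctor U.ι
  let M := R.obj (Omega.sheaf x)
  let N := R.obj Q
  let up : U.toScheme.affineOpens → X.affineOpens := fun W => ⟨U.ι ''ᵁ W.1, W.2.image_of_isOpenImmersion U.ι⟩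
  have hup : ∀ W, (up W).1 ≤ U := fun W => U.ι_image_le W.1
  let P : U.toScheme.affineOpens → Prop := fun W => Sub x i (up W)
  have hP : KoszShH13.IsAffBasis P := fun O z hz => by
    obtain ⟨W, hs, hzW, hle⟩ := exists_sub x i (U.ι ''ᵁ O) (U.ι z) ⟨z, hz, rfl⟩
    have hWU : W.1 ≤ U := hle.trans (U.ι_image_le O)
    have hW' : IsAffineOpen (U.ι ⁻¹ᵁ W.1) := W.2.preimage_of_isOpenImmersion U.ι
      (by rw [Scheme.Opens.opensRange_ι]; exact hWU)
    refine ⟨⟨U.ι ⁻¹ᵁ W.1, hW'⟩, ?_, hzW, fun a ha => ?_⟩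
    · obtain ⟨V, e⟩ := hs
      exact ⟨V, (U.ι.image_preimage_le W.1).trans e⟩
    · obtain ⟨b, hb, e⟩ := hle ha
      exact U.ι.isOpenEmbedding.injective e ▸ hb
  choose l hsmul hl using fun (W : U.toScheme.affineOpens) (hW : P W) => exists_lin x i δ (up W) (hup W) hW
  obtain ⟨ψ, hψ⟩ := KoszShH13.exists_glue (M := M) (N := N) hP
    (fun W hW => l W hW)
    (fun W hW r m => hsmul W hW ((U.ι.appIso W.1).inv r) m)
    fun W hW W' hW' hle m => by
      have hle' : (up W').1 ≤ (up W).1 := U.ι.image_mono hle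
      refine DFunLike.congr_fun (lin_ext x i hW (rr hle')
        ((M1.mres Q hle').hom.comp (l W hW)) ((l W' hW').comp (M1.mres (Omega.sheaf x) hle').hom) ?_ ?_ ?_) m
      · intro r m
        show M1.mres Q hle' (l W hW (r • m)) = _
        rw [hsmul, M1.mres_smul]
        rfl
      · intro r m
        show l W' hW' (M1.mres _ hle' (r • m)) = _
        rw [M1.mres_smul, hsmul]
        rfl
      · intro b
        show M1.mres Q hle' (l W hW (OmegaSh.dSect x (up W).1 b)) =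
          l W' hW' (M1.mres _ hle' (OmegaSh.dSect x (up W).1 b))
        rw [hl, show M1.mres (Omega.sheaf x) hle' (OmegaSh.dSect x (up W).1 b) =
          OmegaSh.dSect x (up W').1 (rr hle' b) from (OmegaSh.dSect_map x hle' b).symm, hl]
        exact ap_nat δ (up W) (up W') _ _ hle' b
  let adj := CxOX.extZeroAdj U.ι
  haveI := DMV.mono_counit U (Omega.sheaf x)
  let α := Injective.factorThru ((adj.homEquiv M Q).symm ψ) (adj.counit.app (Omega.sheaf x))
  have hα : R.map α = ψ := by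
    have h1 : adj.homEquiv M Q (adj.counit.app (Omega.sheaf x) ≫ α) = ψ := by
      rw [Injective.comp_factorThru, Equiv.apply_symm_apply]
    rw [Adjunction.homEquiv_naturality_right, Adjunction.homEquiv_unit] at h1
    rw [← h1, adj.right_triangle_components (Omega.sheaf x)]
    exact (Category.id_comp _).symm
  refine ⟨α, ext_sub x i fun W hW s hs => ?_⟩
  have hW' : IsAffineOpen (U.ι ⁻¹ᵁ W.1) := W.2.preimage_of_isOpenImmersion U.ι
    (by rw [Scheme.Opens.opensRange_ι]; exact hW)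
  have e : up ⟨U.ι ⁻¹ᵁ W.1, hW'⟩ = W := Subtype.ext (by
    show U.ι ''ᵁ (U.ι ⁻¹ᵁ W.1) = W.1
    rw [Scheme.Hom.image_preimage_eq_opensRange_inf, Scheme.Opens.opensRange_ι, inf_eq_right.2 hW])
  suffices key : ∀ W₀ (hs : P W₀) s, α.app (up W₀).1 (OmegaSh.dSect x (up W₀).1 s) = ap δ (up W₀) (hup W₀) s by
    revert s hs hW
    rw [← e]
    intro hW s hs
    exact key _ hs s
  intro W₀ hs s
  have h2 := congrArg (fun f : M ⟶ N => f.app W₀.1 (OmegaSh.dSect x (up W₀).1 s)) hα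
  exact h2.trans ((hψ W₀ hs _).trans (hl W₀ hs s))

theorem isFlasque_derSh [Injective Q] : TopCat.Sheaf.IsFlasque (derSh (x ≫ i) Q) :=
  ⟨fun {U V} j => by
    rw [AddCommGrpCat.epi_iff_surjective]
    intro δ
    obtain ⟨α, hα⟩ := exists_extend (x := x) (i := i) (Q := Q) (U := V.unop) δ
    exact ⟨ofHom x i α U.unop, hα⟩⟩

/-- Derivations lift along epimorphisms of modules over affine opens of a smooth scheme. -/
theorem exists_lift [Smooth x] {Q' : X.Modules} (φ : Q ⟶ Q') (U : X.affineOpens) (hs : Sub x i U)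
    (hφ : Function.Surjective (φ.app U.1)) (δ' : der (x ≫ i) Q' U.1) :
    ∃ δ : der (x ≫ i) Q U.1, post φ U.1 δ = δ' := by
  obtain ⟨V, e⟩ := hs
  obtain ⟨l', hl'smul, hl'⟩ := exists_lin x i δ' U le_rfl ⟨V, e⟩
  letI : Algebra Γ(B, i ⁻¹ᵁ V.1) Γ(X, U.1) := (x.appLE (i ⁻¹ᵁ V.1) U.1 e).hom.toAlgebra
  haveI : Algebra.Smooth Γ(B, i ⁻¹ᵁ V.1) Γ(X, U.1) :=
    (HasRingHomProperty.appLE @Smooth x inferInstance ⟨_, V.2.preimage i⟩ U e)
  let T := OmAff.toSect x (i ⁻¹ᵁ V.1) U.1 e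
  let T' : Ω[Γ(X, U.1)⁄Γ(B, i ⁻¹ᵁ V.1)] →ₗ[Γ(X, U.1)] Γ(Omega.sheaf x, U.1) :=
    { toFun := fun z => T z
      map_add' := fun a b => map_add T.hom a b
      map_smul' := fun r a => T.hom.map_smul r a }
  let π : Γ(Q, U.1) →ₗ[Γ(X, U.1)] Γ(Q', U.1) :=
    { (φ.app U.1).hom with map_smul' := fun r a => Scheme.Modules.Hom.app_smul φ r a }
  let L' : Γ(Omega.sheaf x, U.1) →ₗ[Γ(X, U.1)] Γ(Q', U.1) := { l' with map_smul' := hl'smul }
  obtain ⟨L, hL⟩ := Module.projective_lifting_property π (L' ∘ₗ T') hφ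
  have hLd : ∀ s, φ.app U.1 (L (KaehlerDifferential.D _ _ s)) = ap δ' U le_rfl s := fun s =>
    (DFunLike.congr_fun hL _).trans ((congrArg l' (OmAff.toSect_d x (i ⁻¹ᵁ V.1) U.1 e s)).trans (hl' s))
  have hbase : ∀ (W : X.affineOpens) (hW : W.1 ≤ U.1) (a : Γ(S, V.1)),
      (x ≫ i).appLE V.1 W.1 (hW.trans e) a = rr hW (x.appLE (i ⁻¹ᵁ V.1) U.1 e (i.app V.1 a)) := fun W hW a => by
    refine Eq.trans ?_ (congrArg (rr hW) (ConcreteCategory.congr_hom (Scheme.Hom.comp_appLE x i V.1 U.1 e) a))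
    exact (ConcreteCategory.congr_hom ((x ≫ i).appLE_map e (homOfLE hW).op) a).symm
  have key : ∀ W : Idx U.1, ∃! D : Γ(X, W.1.1) →+ Γ(Q, W.1.1),
      (∀ a b, D (a * b) = a • D b + b • D a) ∧
        ∀ s, D (rr W.2 s) = M1.mres Q W.2 (L (KaehlerDifferential.D _ _ s)) := by
    intro W
    letI : Algebra Γ(X, U.1) Γ(X, W.1.1) := (rr W.2).toAlgebra
    letI : Algebra Γ(B, i ⁻¹ᵁ V.1) Γ(X, W.1.1) := ((rr W.2).comp (algebraMap _ Γ(X, U.1))).toAlgebra
    haveI : IsScalarTower Γ(B, i ⁻¹ᵁ V.1) Γ(X, U.1) Γ(X, W.1.1) := IsScalarTower.of_algebraMap_eq fun _ => rfl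
    haveI : Algebra.Etale Γ(X, U.1) Γ(X, W.1.1) := etale_res U.2 W.1.2 W.2
    letI : Module Γ(X, U.1) Γ(Q, W.1.1) := Module.compHom _ (rr W.2)
    haveI : IsScalarTower Γ(X, U.1) Γ(X, W.1.1) Γ(Q, W.1.1) := IsScalarTower.of_algebraMap_smul fun _ _ => rfl
    letI : Module Γ(B, i ⁻¹ᵁ V.1) Γ(Q, W.1.1) :=
      Module.compHom _ ((rr W.2).comp (algebraMap Γ(B, i ⁻¹ᵁ V.1) Γ(X, U.1)))
    haveI : IsScalarTower Γ(B, i ⁻¹ᵁ V.1) Γ(X, W.1.1) Γ(Q, W.1.1) := IsScalarTower.of_algebraMap_smul fun _ _ => rfl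
    let LW : Ω[Γ(X, U.1)⁄Γ(B, i ⁻¹ᵁ V.1)] →ₗ[Γ(X, U.1)] Γ(Q, W.1.1) :=
      { toFun := fun z => M1.mres Q W.2 (L z)
        map_add' := fun a b => by rw [map_add, map_add]
        map_smul' := fun r a => by rw [map_smul, M1.mres_smul]; rfl }
    let E := KaehlerDifferential.tensorKaehlerEquivOfFormallyEtale Γ(B, i ⁻¹ᵁ V.1) Γ(X, U.1) Γ(X, W.1.1)
    let M := (LW.liftBaseChange Γ(X, W.1.1)).comp E.symm.toLinearMap
    refine ⟨(M.compDer (KaehlerDifferential.D _ _)).toLinearMap.toAddMonoidHom, ⟨fun a b => ?_, fun s => ?_⟩, ?_⟩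
    · exact (M.compDer (KaehlerDifferential.D _ _)).leibniz a b
    · show M (KaehlerDifferential.D _ _ (algebraMap Γ(X, U.1) Γ(X, W.1.1) s)) = _
      show LW.liftBaseChange _ ((KaehlerDifferential.tensorKaehlerEquivOfFormallyEtale Γ(B, i ⁻¹ᵁ V.1) Γ(X, U.1) Γ(X, W.1.1)).symm (KaehlerDifferential.D Γ(B, i ⁻¹ᵁ V.1) Γ(X, W.1.1) (algebraMap Γ(X, U.1) Γ(X, W.1.1) s))) = _
      rw [KaehlerDifferential.tensorKaehlerEquivOfFormallyEtale_symm_D_algebraMap, LinearMap.liftBaseChange_one_tmul]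
      rfl
    · rintro D ⟨hmul, hD⟩
      let D₀ := M.compDer (KaehlerDifferential.D Γ(B, i ⁻¹ᵁ V.1) Γ(X, W.1.1))
      have hD₀ : ∀ s, D₀ (algebraMap Γ(X, U.1) Γ(X, W.1.1) s) = M1.mres Q W.2 (L (KaehlerDifferential.D _ _ s)) :=
        fun s => by
          show LW.liftBaseChange _ ((KaehlerDifferential.tensorKaehlerEquivOfFormallyEtale Γ(B, i ⁻¹ᵁ V.1) Γ(X, U.1) Γ(X, W.1.1)).symm (KaehlerDifferential.D Γ(B, i ⁻¹ᵁ V.1) Γ(X, W.1.1) (algebraMap Γ(X, U.1) Γ(X, W.1.1) s))) = _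
          rw [KaehlerDifferential.tensorKaehlerEquivOfFormallyEtale_symm_D_algebraMap,
            LinearMap.liftBaseChange_one_tmul]
          rfl
      let Δ : Derivation Γ(X, U.1) Γ(X, W.1.1) Γ(Q, W.1.1) :=
        Derivation.mk'
          { toFun := fun a => D a - D₀ a
            map_add' := fun a b => by rw [map_add, map_add]; abel
            map_smul' := fun r a => by
              have h0 : D (algebraMap Γ(X, U.1) Γ(X, W.1.1) r) - D₀ (algebraMap Γ(X, U.1) Γ(X, W.1.1) r) = 0 :=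
                sub_eq_zero.2 ((hD r).trans (hD₀ r).symm)
              rw [RingHom.id_apply, Algebra.smul_def, hmul, Derivation.leibniz, ← algebraMap_smul Γ(X, W.1.1) r
                (D a - D₀ a)]
              rw [smul_sub, ← sub_eq_zero, show algebraMap Γ(X, U.1) Γ(X, W.1.1) r • D a + a • D (algebraMap _ _ r) -
                (algebraMap Γ(X, U.1) Γ(X, W.1.1) r • D₀ a + a • D₀ (algebraMap _ _ r)) -
                (algebraMap Γ(X, U.1) Γ(X, W.1.1) r • D a - algebraMap Γ(X, U.1) Γ(X, W.1.1) r • D₀ a) =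
                a • (D (algebraMap Γ(X, U.1) Γ(X, W.1.1) r) - D₀ (algebraMap Γ(X, U.1) Γ(X, W.1.1) r)) by
                  rw [smul_sub]; abel, h0, smul_zero] }
          fun a b => by
            show D (a * b) - D₀ (a * b) = a • (D b - D₀ b) + b • (D a - D₀ a)
            rw [hmul, Derivation.leibniz, smul_sub, smul_sub]
            abel
      refine AddMonoidHom.ext fun a => sub_eq_zero.1 ?_
      show Δ a = 0
      rw [← Δ.liftKaehlerDifferential_comp_D a, Subsingleton.elim (KaehlerDifferential.D Γ(X, U.1) Γ(X, W.1.1) a) 0,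
        map_zero]
  choose D hD huniq using key
  have huniq' : ∀ (W : Idx U.1) {P : X.Modules} (D₁ D₂ : Γ(X, W.1.1) →+ Γ(P, W.1.1)),
      (∀ a b, D₁ (a * b) = a • D₁ b + b • D₁ a) → (∀ a b, D₂ (a * b) = a • D₂ b + b • D₂ a) →
      (∀ s, D₁ (rr W.2 s) = D₂ (rr W.2 s)) → D₁ = D₂ := by
    intro W P D₁ D₂ h1 h2 h12
    letI : Algebra Γ(X, U.1) Γ(X, W.1.1) := (rr W.2).toAlgebra
    haveI : Algebra.Etale Γ(X, U.1) Γ(X, W.1.1) := etale_res U.2 W.1.2 W.2
    letI : Module Γ(X, U.1) Γ(P, W.1.1) := Module.compHom _ (rr W.2)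
    haveI : IsScalarTower Γ(X, U.1) Γ(X, W.1.1) Γ(P, W.1.1) := IsScalarTower.of_algebraMap_smul fun _ _ => rfl
    let Δ : Derivation Γ(X, U.1) Γ(X, W.1.1) Γ(P, W.1.1) :=
      Derivation.mk'
        { toFun := fun a => D₁ a - D₂ a
          map_add' := fun a b => by rw [map_add, map_add]; abel
          map_smul' := fun r a => by
            rw [RingHom.id_apply, Algebra.smul_def, h1, h2, ← algebraMap_smul Γ(X, W.1.1) r (D₁ a - D₂ a),
              show D₁ (algebraMap Γ(X, U.1) Γ(X, W.1.1) r) = D₂ (algebraMap Γ(X, U.1) Γ(X, W.1.1) r) from h12 r,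
              smul_sub]
            abel }
        fun a b => by
          show D₁ (a * b) - D₂ (a * b) = a • (D₁ b - D₂ b) + b • (D₁ a - D₂ a)
          rw [h1, h2, smul_sub, smul_sub]
          abel
    refine AddMonoidHom.ext fun a => sub_eq_zero.1 ?_
    show Δ a = 0
    rw [← Δ.liftKaehlerDifferential_comp_D a, Subsingleton.elim (KaehlerDifferential.D Γ(X, U.1) Γ(X, W.1.1) a) 0,
      map_zero]
  have hD0 : ∀ W a, D W ((x ≫ i).appLE V.1 W.1.1 (W.2.trans e) a) = 0 := fun W a => by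
    rw [hbase W.1 W.2 a, (hD W).2,
      show x.appLE (i ⁻¹ᵁ V.1) U.1 e (i.app V.1 a) = algebraMap Γ(B, i ⁻¹ᵁ V.1) Γ(X, U.1) (i.app V.1 a) from rfl,
      Derivation.map_algebraMap, map_zero, map_zero]
  have hnat : ∀ (W W' : Idx U.1) (h : W'.1.1 ≤ W.1.1) a, M1.mres Q h (D W a) = D W' (rr h a) := by
    intro W W' h
    letI : Algebra Γ(X, U.1) Γ(X, W.1.1) := (rr W.2).toAlgebra
    haveI : Algebra.Etale Γ(X, U.1) Γ(X, W.1.1) := etale_res U.2 W.1.2 W.2
    letI : Module Γ(X, U.1) Γ(Q, W'.1.1) := Module.compHom _ (rr W'.2)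
    letI : Module Γ(X, W.1.1) Γ(Q, W'.1.1) := Module.compHom _ (rr h)
    haveI : IsScalarTower Γ(X, U.1) Γ(X, W.1.1) Γ(Q, W'.1.1) := IsScalarTower.of_algebraMap_smul fun r m => by
      show rr h (rr W.2 r) • m = rr W'.2 r • m
      rw [rr_rr]
    let E₁ : Γ(X, W.1.1) →+ Γ(Q, W'.1.1) := (M1.mres Q h).hom.comp (D W)
    let E₂ : Γ(X, W.1.1) →+ Γ(Q, W'.1.1) := (D W').comp (rr h).toAddMonoidHom
    have h1 : ∀ a b, E₁ (a * b) = a • E₁ b + b • E₁ a := fun a b => by
      show M1.mres Q h (D W (a * b)) = rr h a • M1.mres Q h (D W b) + rr h b • M1.mres Q h (D W a)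
      rw [(hD W).1, map_add, M1.mres_smul, M1.mres_smul]
    have h2 : ∀ a b, E₂ (a * b) = a • E₂ b + b • E₂ a := fun a b => by
      show D W' (rr h (a * b)) = rr h a • D W' (rr h b) + rr h b • D W' (rr h a)
      rw [map_mul, (hD W').1]
    let Δ : Derivation Γ(X, U.1) Γ(X, W.1.1) Γ(Q, W'.1.1) :=
      Derivation.mk'
        { toFun := fun a => E₁ a - E₂ a
          map_add' := fun a b => by rw [map_add, map_add]; abel
          map_smul' := fun r a => by
            have e0 : E₁ (algebraMap Γ(X, U.1) Γ(X, W.1.1) r) = E₂ (algebraMap Γ(X, U.1) Γ(X, W.1.1) r) := by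
              show M1.mres Q h (D W (rr W.2 r)) = D W' (rr h (rr W.2 r))
              rw [(hD W).2, rr_rr, (hD W').2, M1.mres_mres]
            rw [RingHom.id_apply, Algebra.smul_def, h1, h2, ← algebraMap_smul Γ(X, W.1.1) r (E₁ a - E₂ a), e0, smul_sub]
            abel }
        fun a b => by
          show E₁ (a * b) - E₂ (a * b) = a • (E₁ b - E₂ b) + b • (E₁ a - E₂ a)
          rw [h1, h2, smul_sub, smul_sub]
          abel
    intro a
    refine sub_eq_zero.1 ?_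
    show Δ a = 0
    rw [← Δ.liftKaehlerDifferential_comp_D a, Subsingleton.elim (KaehlerDifferential.D Γ(X, U.1) Γ(X, W.1.1) a) 0,
      map_zero]
  refine ⟨⟨D, mem_der_of_anchor V e D (fun W => (hD W).1) hD0 hnat⟩, Subtype.ext (funext fun W => ?_)⟩
  refine huniq' W _ _ (fun a b => ?_) (δ'.2.1 W) fun s => ?_
  · show φ.app _ (D W (a * b)) = a • φ.app _ (D W b) + b • φ.app _ (D W a)
    rw [(hD W).1, map_add, Scheme.Modules.Hom.app_smul, Scheme.Modules.Hom.app_smul]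
  · show φ.app _ (D W (rr W.2 s)) = δ'.1 W (rr W.2 s)
    rw [(hD W).2]
    refine (M1.app_mres φ W.2 _).trans ?_
    rw [hLd]
    exact ap_nat δ' U W.1 le_rfl W.2 W.2 s

end Groth.Agent.SmoothObs3
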