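import Groth.Agent.Lib.SmoothObs3.Data
import Groth.Agent.Lib.ThickAff3.Affine
import Groth.Agent.Lib.PP12.AffineOps
import Groth.Agent.Lib.FormalH7.Ideal
import Groth.Agent.Lib.EffCartier.Mul
import Groth.Agent.Lib.EffCartier.Comap
import Groth.Agent.Lib.TensorMod.IdealMod
import Groth.Agent.Lib.TensorMod.PullStalk
import Mathlib.AlgebraicGeometry.Morphisms.Flat

/-!
# Local lifts from smooth schemes over the thickened base
-/

set_option autoImplicit false
set_option linter.style.haveILetI false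
set_option backward.isDefEq.respectTransparency false
set_option backward.isDefEq.respectTransparency.types false

universe u

open CategoryTheory CategoryTheory.Limits AlgebraicGeometry TopologicalSpace Opposite
open scoped TensorProduct

namespace Groth.Agent.SmoothObs3

variable {X B S : Scheme.{u}} (x : X ⟶ B) (i : B ⟶ S)

/-- The module of the kernel. -/
noncomputable abbrev kerJ : X.Modules := (Scheme.Modules.pullback (x ≫ i)).obj (ClSub.idealMod i.ker)

/-- A section of the ideal module with given image. -/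
noncomputable def pre (V : S.affineOpens) (c : i.ker.ideal V) : Γ(ClSub.idealMod i.ker, V.1) :=
  ((M2.range_idealIncl i.ker V).ge c.2).choose

theorem idealIncl_pre (V : S.affineOpens) (c : i.ker.ideal V) : M2.idealIncl i.ker (pre i V c) = c.1 :=
  ((M2.range_idealIncl i.ker V).ge c.2).choose_spec

theorem pre_idealIncl (V : S.affineOpens) (s : Γ(ClSub.idealMod i.ker, V.1))
    (h : M2.idealIncl i.ker s ∈ i.ker.ideal V) : pre i V ⟨_, h⟩ = s :=
  M2.idealIncl_injective i.ker V.1 (idealIncl_pre i V ⟨_, h⟩)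

/-- The generators. -/
noncomputable def gmJ (V : S.affineOpens) (c : i.ker.ideal V) : Γ(kerJ x i, (x ≫ i) ⁻¹ᵁ V.1) :=
  M2.pullSec (x ≫ i) (ClSub.idealMod i.ker) (pre i V c)

theorem span_gmJ (V : S.affineOpens) (W : X.affineOpens) (e : W.1 ≤ (x ≫ i) ⁻¹ᵁ V.1) (m : Γ(kerJ x i, W.1)) :
    m ∈ Submodule.span Γ(X, W.1) (Set.range fun c => M1.mres (kerJ x i) e (gmJ x i V c)) := by
  letI := ((x ≫ i).appLE V.1 W.1 e).hom.toAlgebra
  letI := PullBC11.baseModule (g := x ≫ i) (kerJ x i) e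
  haveI : IsScalarTower Γ(S, V.1) Γ(X, W.1) Γ(kerJ x i, W.1) := IsScalarTower.of_algebraMap_smul fun _ _ => rfl
  have h : IsBaseChange Γ(X, W.1) (PullBC11.sect (PP12.unitTo (x ≫ i) (ClSub.idealMod i.ker)) e) :=
    PP12.isBC_unit (x ≫ i) (M2.isQCoh_idealMod i.ker) V.2 W.2 e
  induction m using h.inductionOn with
  | zero => exact zero_mem _
  | tmul s =>
    exact Submodule.subset_span ⟨⟨M2.idealIncl i.ker s, (M2.range_idealIncl i.ker V).le ⟨s, rfl⟩⟩,
      congrArg (fun t => M1.mres (kerJ x i) e (M2.pullSec (x ≫ i) _ t)) (pre_idealIncl i V s _)⟩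
  | smul r t ht => exact Submodule.smul_mem _ r ht
  | add s t hs ht => exact add_mem hs ht

/-- The kernel module with its generators. -/
noncomputable def kerMod : KerMod x i where
  J := kerJ x i
  I := i.ker
  gm := gmJ x i
  span := span_gmJ x i

section local_lift

variable {U : X.Opens} {T : Scheme.{u}} (j : U.toScheme ⟶ T) [IsClosedImmersion j] [Surjective j]

/-- The open of the lift over an open. -/
noncomputable def up (W : X.Opens) : T.Opens :=
  ⟨j '' (U.ι ⁻¹ᵁ W : Set U.toScheme),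
    ((isHomeomorph_iff_isEmbedding_surjective.2 ⟨j.isClosedEmbedding.isEmbedding, j.surjective⟩).isOpenMap _
      (U.ι ⁻¹ᵁ W).2)⟩

theorem pre_up (W : X.Opens) : j ⁻¹ᵁ up j W = U.ι ⁻¹ᵁ W :=
  Opens.ext (Set.preimage_image_eq _ j.isClosedEmbedding.injective)

theorem up_mono {W W' : X.Opens} (h : W' ≤ W) : up j W' ≤ up j W := Set.image_mono fun z hz => h hz

variable {x i} [IsClosedImmersion i] (f : T ⟶ S) (hsq : IsPullback j (U.ι ≫ x) f i)
include hsq

theorem up_le_preimage {V : S.Opens} {W : X.Opens} (e : W ≤ (x ≫ i) ⁻¹ᵁ V) : up j W ≤ f ⁻¹ᵁ V := by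
  rintro _ ⟨z, hz, rfl⟩
  show (j ≫ f) z ∈ V
  rw [hsq.w]
  exact e hz

variable (hI : i.ker * i.ker = ⊥)
include hI

theorem ker_sq : j.ker * j.ker = ⊥ := by
  rw [show j.ker = i.ker.comap f from FormalH7.ker_of_isPullback hsq, ← EffCartier.comap_mul, hI,
    Scheme.IdealSheafData.comap_bot]

theorem isAffineOpen_up {W : X.Opens} (hW : IsAffineOpen W) (hWU : W ≤ U) : IsAffineOpen (up j W) := by
  haveI : IsAffine (j ⁻¹ᵁ up j W).toScheme := by
    show IsAffineOpen (j ⁻¹ᵁ up j W)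
    rw [pre_up]
    exact hW.preimage_of_isOpenImmersion U.ι (by rw [Scheme.Opens.opensRange_ι]; exact hWU)
  haveI : Surjective (j ∣_ up j W) := IsZariskiLocalAtTarget.restrict (inferInstanceAs (Surjective j)) _
  haveI : IsClosedImmersion (j ∣_ up j W) := IsZariskiLocalAtTarget.restrict (inferInstanceAs (IsClosedImmersion j)) _
  refine ThickAff3.isAffine_of_nilpotent_thickening (j ∣_ up j W) 2 fun O => ?_
  let O' : T.affineOpens := ⟨(up j W).ι ''ᵁ O.1, O.2.image_of_isOpenImmersion (up j W).ι⟩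
  have h0 : RingHom.ker (j.app O'.1).hom ^ 2 = ⊥ := by
    rw [← Scheme.Hom.ker_apply, pow_two]
    have := congrArg (fun I : T.IdealSheafData => I.ideal O') (ker_sq j f hsq hI)
    simpa [Scheme.IdealSheafData.ideal_mul] using this
  have hk : RingHom.ker ((j ∣_ up j W).app O.1).hom = RingHom.ker (j.app O'.1).hom := by
    rw [morphismRestrict_app]
    refine Ideal.ext fun a => ?_
    rw [RingHom.mem_ker, RingHom.mem_ker]
    exact ⟨fun h => (ConcreteCategory.bijective_of_isIso (U.toScheme.presheaf.map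
      (eqToHom (image_morphismRestrict_preimage j (up j W) O.1)).op)).1 (h.trans (map_zero _).symm),
      fun h => (congrArg _ h).trans (map_zero (U.toScheme.presheaf.map (eqToHom (image_morphismRestrict_preimage j (up j W) O.1)).op).hom)⟩
  rw [hk]
  exact h0

omit hsq hI

/-- The closed fibre over an affine open. -/
noncomputable def qUp {W : X.Opens} (hWU : W ≤ U) : Γ(T, up j W) ⟶ Γ(X, W) :=
  (X.homOfLE hWU ≫ j).appLE (up j W) ⊤ (fun z _ => ⟨X.homOfLE hWU z, by
    show (X.homOfLE hWU z).1 ∈ W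
    rw [Scheme.homOfLE_apply]; exact z.2, rfl⟩) ≫ W.topIso.hom

theorem qUp_res {W W' : X.Opens} (hW : W ≤ U) (hW' : W' ≤ U) (h : W' ≤ W) (a : Γ(T, up j W)) :
    qUp j hW' (T.presheaf.map (homOfLE (up_mono j h)).op a) = rr h (qUp j hW a) := by
  have key : T.presheaf.map (homOfLE (up_mono j h)).op ≫ qUp j hW' =
      qUp j hW ≫ X.presheaf.map (homOfLE h).op := by
    have e : X.homOfLE hW' ≫ j = X.homOfLE h ≫ X.homOfLE hW ≫ j := (Scheme.homOfLE_homOfLE_assoc _ _ _ _).symm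
    simp only [qUp, Category.assoc, Scheme.Hom.map_appLE_assoc, e]
    rw [← Scheme.Hom.appLE_comp_appLE (f := X.homOfLE h) (g := X.homOfLE hW ≫ j) (U := up j W) (V := ⊤) (W := ⊤)
      (fun z _ => ⟨X.homOfLE hW z, by show (X.homOfLE hW z).1 ∈ W; rw [Scheme.homOfLE_apply]; exact z.2, rfl⟩)
      (fun z _ => trivial), Category.assoc]
    refine congrArg (_ ≫ ·) ?_
    simp [Scheme.homOfLE_app, Scheme.Hom.appLE, ← Functor.map_comp]
    erw [Category.id_comp]
    rw [← Functor.map_comp]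
    rfl
  exact ConcreteCategory.congr_hom key a

theorem spec_qUp {W : X.Opens} (hW : IsAffineOpen W) (hWU : W ≤ U) (hup : IsAffineOpen (up j W)) :
    hW.isoSpec.hom ≫ Spec.map (qUp j hWU) ≫ hup.fromSpec = X.homOfLE hWU ≫ j := by
  haveI : IsAffine W.toScheme := hW
  have e := IsAffineOpen.SpecMap_appLE_fromSpec (X.homOfLE hWU ≫ j) hup (isAffineOpen_top W.toScheme)
    (fun z _ => ⟨X.homOfLE hWU z, by show (X.homOfLE hWU z).1 ∈ W; rw [Scheme.homOfLE_apply]; exact z.2, rfl⟩)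
  rw [qUp, Spec.map_comp, Category.assoc, e]
  show (W.toScheme.isoSpec.hom ≫ Spec.map W.topIso.inv) ≫ Spec.map W.topIso.hom ≫ _ = _
  rw [Category.assoc, ← Spec.map_comp_assoc, Iso.hom_inv_id, Spec.map_id, Category.id_comp,
    IsAffineOpen.fromSpec_top, Iso.hom_inv_id_assoc]

include hsq

theorem isPullback_qUp {W : X.Opens} (hW : IsAffineOpen W) (hWU : W ≤ U) (hup : IsAffineOpen (up j W)) :
    IsPullback (Spec.map (qUp j hWU)) (hW.fromSpec ≫ x) (hup.fromSpec ≫ f) i := by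
  let k : W.toScheme ⟶ (up j W).toScheme := hW.isoSpec.hom ≫ Spec.map (qUp j hWU) ≫ hup.isoSpec.inv
  have hk : k ≫ (up j W).ι = X.homOfLE hWU ≫ j := by
    simp only [k, Category.assoc, IsAffineOpen.isoSpec_inv_ι]
    exact spec_qUp j hW hWU hup
  have h1 : IsPullback (X.homOfLE hWU) k j (up j W).ι := by
    refine (IsOpenImmersion.isPullback k (X.homOfLE hWU) (up j W).ι j hk.symm ?_).flip
    rw [Scheme.Opens.opensRange_ι, Scheme.opensRange_homOfLE, pre_up]
  have h2 : IsPullback k (W.ι ≫ x) ((up j W).ι ≫ f) i := by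
    have := h1.flip.paste_vert hsq
    rwa [Scheme.homOfLE_ι_assoc] at this
  refine IsPullback.of_iso h2 hW.isoSpec hup.isoSpec (Iso.refl _) (Iso.refl _) ?_ ?_ ?_ ?_
  · simp only [k, Category.assoc, Iso.inv_hom_id, Category.comp_id]
  · simp only [Iso.refl_hom, Category.comp_id, IsAffineOpen.isoSpec_hom_fromSpec_assoc]
  · simp only [Iso.refl_hom, Category.comp_id, IsAffineOpen.isoSpec_hom_fromSpec_assoc]
  · simp only [Iso.refl_hom, Category.comp_id, Category.id_comp]

theorem qUp_appLE {V : S.Opens} {W : X.Opens} (hWU : W ≤ U) (e : W ≤ (x ≫ i) ⁻¹ᵁ V) (a : Γ(S, V)) :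
    qUp j hWU (f.appLE V (up j W) (up_le_preimage j f hsq e) a) = (x ≫ i).appLE V W e a := by
  have key : f.appLE V (up j W) (up_le_preimage j f hsq e) ≫ qUp j hWU = (x ≫ i).appLE V W e := by
    have w : (X.homOfLE hWU ≫ j) ≫ f = W.ι ≫ x ≫ i := by
      rw [Category.assoc, hsq.w, Category.assoc, Scheme.homOfLE_ι_assoc]
    rw [qUp, Scheme.Hom.appLE_comp_appLE_assoc]
    simp only [w]
    rw [← Scheme.Hom.appLE_comp_appLE (f := W.ι) (g := x ≫ i) (U := V) (V := W) (W := ⊤) e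
      (by rw [Scheme.Opens.ι_preimage_self]), Category.assoc]
    refine (congrArg (_ ≫ ·) ?_).trans (Category.comp_id _)
    simp [Scheme.Hom.appLE, Scheme.Opens.ι_app, ← Functor.map_comp]
    exact X.presheaf.map_id _
  exact ConcreteCategory.congr_hom key a

include hI

theorem ker_qUp_eq {V : S.affineOpens} {W : X.Opens} (hW : IsAffineOpen W) (hWU : W ≤ U)
    (e : W ≤ (x ≫ i) ⁻¹ᵁ V.1) (a : Γ(T, up j W)) :
    qUp j hWU a = 0 ↔ a ∈ (i.ker.ideal V).map (f.appLE V.1 (up j W) (up_le_preimage j f hsq e)).hom := by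
  have hup := isAffineOpen_up j f hsq hI hW hWU
  rw [← EffCartier.comap_ideal i.ker f V ⟨up j W, hup⟩ (up_le_preimage j f hsq e),
    ← show j.ker = i.ker.comap f from FormalH7.ker_of_isPullback hsq, Scheme.Hom.ker_apply, RingHom.mem_ker]
  have h2 : X.homOfLE hWU ''ᵁ ⊤ = j ⁻¹ᵁ up j W := by
    rw [Scheme.Hom.image_top_eq_opensRange, Scheme.opensRange_homOfLE, pre_up]
  show W.topIso.hom ((X.homOfLE hWU ≫ j).appLE (up j W) ⊤ _ a) = 0 ↔ j.app (up j W) a = 0
  rw [map_eq_zero_iff _ (ConcreteCategory.bijective_of_isIso W.topIso.hom).1,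
    ← Scheme.Hom.appLE_comp_appLE (f := X.homOfLE hWU) (g := j) (U := up j W) (V := j ⁻¹ᵁ up j W) (W := ⊤) le_rfl
      (by rw [← h2, Scheme.Hom.preimage_image_eq]), ← Scheme.Hom.app_eq_appLE]
  haveI : IsIso ((X.homOfLE hWU).appLE (j ⁻¹ᵁ up j W) ⊤ (by rw [← h2, Scheme.Hom.preimage_image_eq])) := by
    haveI := (X.homOfLE hWU).isIso_app (j ⁻¹ᵁ up j W)
      (by rw [Scheme.opensRange_homOfLE, pre_up])
    haveI : IsIso (homOfLE (by rw [← h2, Scheme.Hom.preimage_image_eq] :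
        (⊤ : W.toScheme.Opens) ≤ X.homOfLE hWU ⁻¹ᵁ (j ⁻¹ᵁ up j W))) :=
      ⟨⟨homOfLE le_top, Subsingleton.elim _ _, Subsingleton.elim _ _⟩⟩
    rw [Scheme.Hom.appLE]
    infer_instance
  exact map_eq_zero_iff _ (ConcreteCategory.bijective_of_isIso
    ((X.homOfLE hWU).appLE (j ⁻¹ᵁ up j W) ⊤ _)).1

theorem exists_theta [Flat f] {V : S.affineOpens} {W : X.Opens} (hW : IsAffineOpen W) (hWU : W ≤ U)
    (e : W ≤ (x ≫ i) ⁻¹ᵁ V.1) (hq : Function.Surjective (qUp j hWU)) :
    ∃ θ : Γ(kerJ x i, W) →+ Γ(T, up j W), Function.Injective θ ∧ (∀ m, qUp j hWU (θ m) = 0) ∧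
      (∀ a, qUp j hWU a = 0 → ∃ m, θ m = a) ∧ (∀ a m, a * θ m = θ (qUp j hWU a • m)) ∧
      ∀ c, θ (M1.mres (kerJ x i) e (gmJ x i V c)) = f.appLE V.1 (up j W) (up_le_preimage j f hsq e) c.1 := by
  let σ := (f.appLE V.1 (up j W) (up_le_preimage j f hsq e)).hom
  let q := (qUp j hWU).hom
  let M := Γ(ClSub.idealMod i.ker, V.1)
  have hker := ker_qUp_eq j f hsq hI hW hWU e
  letI : Algebra Γ(S, V.1) Γ(T, up j W) := σ.toAlgebra
  letI : Algebra Γ(S, V.1) Γ(X, W) := ((x ≫ i).appLE V.1 W e).hom.toAlgebra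
  letI : Algebra Γ(T, up j W) Γ(X, W) := q.toAlgebra
  haveI : IsScalarTower Γ(S, V.1) Γ(T, up j W) Γ(X, W) :=
    IsScalarTower.of_algebraMap_eq fun a => (qUp_appLE j f hsq hWU e a).symm
  haveI : Module.Flat Γ(S, V.1) Γ(T, up j W) :=
    HasRingHomProperty.appLE @Flat f inferInstance V ⟨up j W, isAffineOpen_up j f hsq hI hW hWU⟩ _
  let ι : M →ₗ[Γ(S, V.1)] Γ(S, V.1) :=
    { toFun := fun s => M2.idealIncl i.ker s
      map_add' := fun a b => M2.idealIncl_add i.ker a b
      map_smul' := fun r s => M2.idealIncl_smul i.ker r s }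
  let μ : Γ(T, up j W) ⊗[Γ(S, V.1)] M →ₗ[Γ(S, V.1)] Γ(T, up j W) :=
    (TensorProduct.rid Γ(S, V.1) Γ(T, up j W)).toLinearMap ∘ₗ ι.lTensor Γ(T, up j W)
  have hμ : ∀ a s, μ (a ⊗ₜ s) = σ (M2.idealIncl i.ker s) * a := fun a s => by
    simp [μ, ι, Algebra.smul_def]
    rfl
  have hμinj : Function.Injective μ :=
    (TensorProduct.rid Γ(S, V.1) Γ(T, up j W)).injective.comp
      (Module.Flat.lTensor_preserves_injective_linearMap ι (M2.idealIncl_injective i.ker V.1))
  have hsq0 : ∀ a b, q a = 0 → q b = 0 → a * b = 0 := fun a b ha hb => by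
    have hup := isAffineOpen_up j f hsq hI hW hWU
    have h1 : (i.ker.ideal V).map σ * (i.ker.ideal V).map σ = ⊥ := by
      rw [← Ideal.map_mul]
      have := congrArg (fun I : S.IdealSheafData => I.ideal V) hI
      simp only [Scheme.IdealSheafData.ideal_mul, Pi.mul_apply, Scheme.IdealSheafData.ideal_bot, Pi.bot_apply] at this
      rw [this, Ideal.map_bot]
    have := Ideal.mul_mem_mul ((hker a).1 ha) ((hker b).1 hb)
    rwa [h1, Ideal.mem_bot] at this
  let s₀ := Function.surjInv hq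
  have hs₀ : ∀ r, q (s₀ r) = r := Function.surjInv_eq hq
  let N := RingHom.ker q
  letI : SMul Γ(X, W) N := ⟨fun r n => ⟨s₀ r * n.1, Ideal.mul_mem_left N _ n.2⟩⟩
  have hsmul : ∀ (a : Γ(T, up j W)) (n : N), ((q a • n : N) : Γ(T, up j W)) = a * n.1 := fun a n => by
    show s₀ (q a) * n.1 = a * n.1
    rw [← sub_eq_zero, ← sub_mul]
    exact hsq0 _ _ (by rw [map_sub, hs₀, sub_self]) n.2
  letI : Module Γ(X, W) N := Function.Surjective.moduleLeft q hq fun a n => Subtype.ext (hsmul a n)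
  haveI : IsScalarTower Γ(S, V.1) Γ(X, W) N := IsScalarTower.of_algebraMap_smul fun r n => Subtype.ext (by
    show (((((x ≫ i).appLE V.1 W e r : Γ(X, W)) • n : N)) : Γ(T, up j W)) = r • n.1
    rw [← qUp_appLE j f hsq hWU e r, hsmul, Algebra.smul_def]
    rfl)
  let g : M →ₗ[Γ(S, V.1)] N :=
    { toFun := fun s => ⟨σ (M2.idealIncl i.ker s), (hker _).2 (Ideal.mem_map_of_mem _
        ((M2.range_idealIncl i.ker V).le ⟨s, rfl⟩))⟩
      map_add' := fun a b => Subtype.ext (by
        show σ _ = σ _ + σ _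
        rw [M2.idealIncl_add, map_add])
      map_smul' := fun r s => Subtype.ext (by
        show σ _ = r • σ _
        rw [M2.idealIncl_smul, map_mul, Algebra.smul_def]
        rfl) }
  letI := PullBC11.baseModule (g := x ≫ i) (kerJ x i) e
  haveI : IsScalarTower Γ(S, V.1) Γ(X, W) Γ(kerJ x i, W) := IsScalarTower.of_algebraMap_smul fun _ _ => rfl
  have hbc : IsBaseChange Γ(X, W) (PullBC11.sect (PP12.unitTo (x ≫ i) (ClSub.idealMod i.ker)) e) :=
    PP12.isBC_unit (x ≫ i) (M2.isQCoh_idealMod i.ker) V.2 hW e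
  let Θ : Γ(kerJ x i, W) →ₗ[Γ(X, W)] N := hbc.lift g
  let θ : Γ(kerJ x i, W) →+ Γ(T, up j W) := AddMonoidHom.mk' (fun m => (Θ m).1) fun a b => by rw [map_add]; rfl
  have hθs : ∀ a m, a * θ m = θ (qUp j hWU a • m) := fun a m => by
    show a * (Θ m).1 = (Θ (q a • m)).1
    rw [map_smul, hsmul]
  have hθg : ∀ s, θ (M1.mres (kerJ x i) e (M2.pullSec (x ≫ i) _ s)) = σ (M2.idealIncl i.ker s) := fun s =>
    congrArg Subtype.val (hbc.lift_eq g s)
  let Ψ : Γ(T, up j W) ⊗[Γ(S, V.1)] M →+ Γ(kerJ x i, W) :=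
    TensorProduct.liftAddHom
      (AddMonoidHom.mk' (fun a => AddMonoidHom.mk'
        (fun s : M => q a • M1.mres (kerJ x i) e (M2.pullSec (x ≫ i) _ s))
        fun s t => by rw [M2.pullSec_add, map_add, smul_add]) fun a b => AddMonoidHom.ext fun s => by
          show q (a + b) • M1.mres (kerJ x i) e (M2.pullSec (x ≫ i) _ s) = _
          rw [map_add, add_smul]
          rfl)
      fun r a s => by
        show q (r • a) • _ = q a • M1.mres (kerJ x i) e (M2.pullSec (x ≫ i) _ (r • s))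
        rw [M2.pullSec_smul, M1.mres_smul, smul_smul, Algebra.smul_def, map_mul, mul_comm]
        exact congrArg (fun y => (q a * y) • _) (qUp_appLE j f hsq hWU e r)
  have hΨt : ∀ a s, Ψ (a ⊗ₜ s) = q a • M1.mres (kerJ x i) e (M2.pullSec (x ≫ i) _ s) := fun a s => rfl
  have hΨs : ∀ (r : Γ(T, up j W)) t, ∃ t', Ψ t' = q r • Ψ t := fun r t => by
    induction t using TensorProduct.induction_on with
    | zero => exact ⟨0, by rw [map_zero, smul_zero]⟩
    | tmul b s => exact ⟨(r * b) ⊗ₜ s, by rw [hΨt, hΨt, map_mul, mul_smul]⟩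
    | add y z hy hz =>
      obtain ⟨⟨y', hy'⟩, ⟨z', hz'⟩⟩ := And.intro hy hz
      exact ⟨y' + z', by rw [map_add, map_add, smul_add, hy', hz']⟩
  have hΨ : Function.Surjective Ψ := fun m => by
    induction span_gmJ x i V ⟨W, hW⟩ e m using Submodule.span_induction with
    | mem t ht =>
      obtain ⟨c, rfl⟩ := ht
      exact ⟨1 ⊗ₜ pre i V c, by rw [hΨt, map_one, one_smul]; rfl⟩
    | zero => exact ⟨0, map_zero _⟩
    | add a b _ _ ha hb =>
      obtain ⟨⟨a', rfl⟩, ⟨b', rfl⟩⟩ := And.intro ha hb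
      exact ⟨a' + b', map_add _ _ _⟩
    | smul r a _ ha =>
      obtain ⟨⟨t, rfl⟩, ⟨r', rfl⟩⟩ := And.intro ha (hq r)
      exact hΨs r' t
  have hΨμ : ∀ t, θ (Ψ t) = μ t := fun t => by
    induction t using TensorProduct.induction_on with
    | zero => simp
    | tmul a s =>
      show θ (q a • _) = _
      rw [← hθs, hθg, hμ, mul_comm]
    | add y z hy hz => rw [map_add, map_add, map_add, hy, hz]
  refine ⟨θ, (injective_iff_map_eq_zero θ).2 fun m hm => ?_, fun m => (Θ m).2, fun a ha => ?_, hθs,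
    fun c => (hθg (pre i V c)).trans (congrArg σ (idealIncl_pre i V c))⟩
  · obtain ⟨t, rfl⟩ := hΨ m
    rw [hΨμ] at hm
    rw [hμinj (hm.trans (map_zero μ).symm), map_zero]
  · have key : ∀ b ∈ (i.ker.ideal V).map σ, ∃ m, θ m = b := fun b hb => by
      induction hb using Submodule.span_induction with
      | mem t ht =>
        obtain ⟨c, hc, rfl⟩ := ht
        obtain ⟨s, rfl⟩ := (M2.range_idealIncl i.ker V).ge hc
        exact ⟨_, hθg s⟩
      | zero => exact ⟨0, map_zero _⟩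
      | add a b _ _ iha ihb =>
        obtain ⟨⟨m, hm⟩, ⟨n, hn⟩⟩ := And.intro iha ihb
        exact ⟨m + n, by rw [map_add, hm, hn]⟩
      | smul r a _ iha =>
        obtain ⟨m, hm⟩ := iha
        exact ⟨q r • m, by rw [← hθs, hm, smul_eq_mul]⟩
    exact key a ((hker a).1 ha)

end local_lift

end Groth.Agent.SmoothObs3
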