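import Groth.Agent.Lib.SmoothObs3.Local
import Groth.Agent.Lib.CurveOm17.Glue

/-!
# The local lift data of a smooth scheme over the thickened base
-/

set_option autoImplicit false
set_option linter.style.haveILetI false
set_option backward.isDefEq.respectTransparency false
set_option backward.isDefEq.respectTransparency.types false

universe u

open CategoryTheory CategoryTheory.Limits AlgebraicGeometry TopologicalSpace Opposite

namespace Groth.Agent.SmoothObs3

variable {X B S : Scheme.{u}} {x : X ⟶ B} {i : B ⟶ S} [IsClosedImmersion i]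
  {U : X.affineOpens} {V₀ : S.affineOpens} (le : U.1 ≤ (x ≫ i) ⁻¹ᵁ V₀.1)
  {T : Scheme.{u}} (j : U.1.toScheme ⟶ T) [IsClosedImmersion j] [Surjective j]
  (f : T ⟶ S) [Smooth f] (hsq : IsPullback j (U.1.ι ≫ x) f i) (hI : i.ker * i.ker = ⊥)

omit [Smooth f] in
include hsq hI in
theorem qUp_surjective {W : X.Opens} (hW : IsAffineOpen W) (hWU : W ≤ U.1) : Function.Surjective (qUp j hWU) := by
  haveI : IsClosedImmersion (Spec.map (qUp j hWU)) :=
    MorphismProperty.of_isPullback (isPullback_qUp j f hsq hW hWU (isAffineOpen_up j f hsq hI hW hWU)).flip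
      (inferInstance : IsClosedImmersion i)
  have h := (IsClosedImmersion.isAffine_surjective_of_isAffine (Spec.map (qUp j hWU))).2
  intro b
  obtain ⟨a, ha⟩ := h ((Scheme.ΓSpecIso Γ(X, W)).inv b)
  refine ⟨(Scheme.ΓSpecIso Γ(T, up j W)).hom a, ?_⟩
  have e := ConcreteCategory.congr_hom (Scheme.ΓSpecIso_naturality (qUp j hWU)) a
  refine e.symm.trans ((congrArg (Scheme.ΓSpecIso Γ(X, W)).hom ha).trans ?_)
  exact ConcreteCategory.congr_hom (Scheme.ΓSpecIso Γ(X, W)).inv_hom_id b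

/-- The kernel map on an affine open. -/
noncomputable def thetaUp (W : X.affineOpens) (hW : W.1 ≤ U.1) : Γ(kerJ x i, W.1) →+ Γ(T, up j W.1) :=
  (exists_theta j f hsq hI W.2 hW (hW.trans le) (qUp_surjective j f hsq hI W.2 hW)).choose

theorem thetaUp_spec (W : X.affineOpens) (hW : W.1 ≤ U.1) :
    Function.Injective (thetaUp le j f hsq hI W hW) ∧ (∀ m, qUp j hW (thetaUp le j f hsq hI W hW m) = 0) ∧
      (∀ a, qUp j hW a = 0 → ∃ m, thetaUp le j f hsq hI W hW m = a) ∧
      (∀ a m, a * thetaUp le j f hsq hI W hW m = thetaUp le j f hsq hI W hW (qUp j hW a • m)) ∧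
      ∀ c, thetaUp le j f hsq hI W hW (M1.mres (kerJ x i) (hW.trans le) (gmJ x i V₀ c)) =
        f.appLE V₀.1 (up j W.1) (up_le_preimage j f hsq (hW.trans le)) c.1 :=
  (exists_theta j f hsq hI W.2 hW (hW.trans le) (qUp_surjective j f hsq hI W.2 hW)).choose_spec

theorem thetaUp_rs {W W' : X.affineOpens} (hW : W.1 ≤ U.1) (hW' : W'.1 ≤ U.1) (h : W'.1 ≤ W.1)
    (m : Γ(kerJ x i, W.1)) :
    T.presheaf.map (homOfLE (up_mono j h)).op (thetaUp le j f hsq hI W hW m) =
      thetaUp le j f hsq hI W' hW' (M1.mres (kerJ x i) h m) := by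
  induction span_gmJ x i V₀ W (hW.trans le) m using Submodule.span_induction with
  | mem t ht =>
    obtain ⟨c, rfl⟩ := ht
    rw [(thetaUp_spec le j f hsq hI W hW).2.2.2.2, M1.mres_mres, (thetaUp_spec le j f hsq hI W' hW').2.2.2.2]
    exact ConcreteCategory.congr_hom (Scheme.Hom.appLE_map f _ _) c.1
  | zero => simp
  | add s t _ _ hs ht => simp only [map_add, hs, ht]
  | smul r t _ ht =>
    obtain ⟨a, rfl⟩ := qUp_surjective j f hsq hI W.2 hW r
    rw [← (thetaUp_spec le j f hsq hI W hW).2.2.2.1, map_mul, ht, (thetaUp_spec le j f hsq hI W' hW').2.2.2.1,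
      qUp_res j hW hW' h]
    exact congrArg (thetaUp le j f hsq hI W' hW') (Scheme.Modules.map_smul _ (homOfLE h) _ t).symm

omit [IsClosedImmersion i] [IsClosedImmersion j] [Surjective j] in
theorem mres_gmJ (V V' : S.affineOpens) (h : V'.1 ≤ V.1) (c : i.ker.ideal V) :
    M1.mres (kerJ x i) ((x ≫ i).preimage_mono h) (gmJ x i V c) =
      gmJ x i V' ⟨S.presheaf.map (homOfLE h).op c.1, i.ker.ideal_le_comap_ideal h c.2⟩ := by
  refine (CurveOm17.mres_pullSec (x ≫ i) (ClSub.idealMod i.ker) h (pre i V c)).trans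
    (congrArg (M2.pullSec (x ≫ i) _) ?_)
  refine M2.idealIncl_injective i.ker _ ?_
  rw [idealIncl_pre]
  exact (M2.idealIncl_res i.ker h _).trans (congrArg _ (idealIncl_pre i V c))

omit [IsClosedImmersion i] [IsClosedImmersion j] [Surjective j] in
theorem gmJ_add (V : S.affineOpens) (c d : i.ker.ideal V) : gmJ x i V (c + d) = gmJ x i V c + gmJ x i V d := by
  rw [gmJ, gmJ, gmJ, ← M2.pullSec_add]
  refine congrArg (M2.pullSec (x ≫ i) _) (M2.idealIncl_injective i.ker _ ?_)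
  rw [M2.idealIncl_add, idealIncl_pre, idealIncl_pre, idealIncl_pre]
  rfl

omit [IsClosedImmersion i] [IsClosedImmersion j] [Surjective j] in
theorem gmJ_smul (V : S.affineOpens) (r : Γ(S, V.1)) (c : i.ker.ideal V) :
    gmJ x i V (r • c) = (x ≫ i).app V.1 r • gmJ x i V c := by
  rw [gmJ, gmJ, ← M2.pullSec_smul]
  refine congrArg (M2.pullSec (x ≫ i) _) (M2.idealIncl_injective i.ker _ ?_)
  rw [M2.idealIncl_smul, idealIncl_pre, idealIncl_pre]
  rfl

theorem thetaUp_gen_of_le (D : S.affineOpens) (hD : D.1 ≤ V₀.1) (W : X.affineOpens) (hW : W.1 ≤ U.1)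
    (e : W.1 ≤ (x ≫ i) ⁻¹ᵁ D.1) (c : i.ker.ideal D) :
    thetaUp le j f hsq hI W hW (M1.mres (kerJ x i) e (gmJ x i D c)) =
      f.appLE D.1 (up j W.1) (up_le_preimage j f hsq e) c.1 := by
  obtain ⟨y, hy⟩ := c
  have hy' : y ∈ (i.ker.ideal V₀).map (S.presheaf.map (homOfLE hD).op).hom := by
    exact (i.ker.map_ideal (U := D) (V := V₀) hD).ge hy
  have key : ∀ y ∈ (i.ker.ideal V₀).map (S.presheaf.map (homOfLE hD).op).hom, ∃ hy : y ∈ i.ker.ideal D,
      thetaUp le j f hsq hI W hW (M1.mres (kerJ x i) e (gmJ x i D ⟨y, hy⟩)) =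
        f.appLE D.1 (up j W.1) (up_le_preimage j f hsq e) y := by
    intro y hy
    induction hy using Submodule.span_induction with
    | mem t ht =>
      obtain ⟨c₀, hc₀, rfl⟩ := ht
      refine ⟨i.ker.ideal_le_comap_ideal hD hc₀, ?_⟩
      rw [← mres_gmJ V₀ D hD ⟨c₀, hc₀⟩, M1.mres_mres, (thetaUp_spec le j f hsq hI W hW).2.2.2.2]
      exact (ConcreteCategory.congr_hom (Scheme.Hom.map_appLE f (up_le_preimage j f hsq e) (homOfLE hD).op) c₀).symm
    | zero =>
      refine ⟨zero_mem _, ?_⟩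
      have h0 : gmJ x i D ⟨0, zero_mem _⟩ = 0 := by
        have := gmJ_add (x := x) (i := i) D (0 : i.ker.ideal D) 0
        rw [add_zero, left_eq_add] at this
        exact this
      rw [h0, map_zero, map_zero, map_zero]
    | add a b _ _ iha ihb =>
      obtain ⟨⟨ha, ea⟩, ⟨hb, eb⟩⟩ := And.intro iha ihb
      refine ⟨add_mem ha hb, ?_⟩
      rw [show (⟨a + b, add_mem ha hb⟩ : i.ker.ideal D) = ⟨a, ha⟩ + ⟨b, hb⟩ from rfl, gmJ_add, map_add, map_add,
        ea, eb, map_add]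
    | smul r a _ iha =>
      obtain ⟨ha, ea⟩ := iha
      refine ⟨Ideal.mul_mem_left _ r ha, ?_⟩
      rw [show (⟨r • a, Ideal.mul_mem_left _ r ha⟩ : i.ker.ideal D) = r • ⟨a, ha⟩ from rfl, gmJ_smul,
        Scheme.Modules.map_smul]
      have hq := qUp_appLE j f hsq hW e r
      have hs := (thetaUp_spec le j f hsq hI W hW).2.2.2.1
        (f.appLE D.1 (up j W.1) (up_le_preimage j f hsq e) r) (M1.mres (kerJ x i) e (gmJ x i D ⟨a, ha⟩))
      rw [hq, ea] at hs
      exact hs.symm.trans (map_mul _ r a).symm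
  exact (key y hy').2

theorem up_inj {W : X.Opens} {z : T} (hz : z ∈ up j W) :
    ∃ w : X, w ∈ W ∧ ∀ W' : X.Opens, w ∈ W' → z ∈ up j W' := by
  obtain ⟨a, ha, rfl⟩ := hz
  exact ⟨a.1, ha, fun W' h => ⟨a, h, rfl⟩⟩

theorem eq_zero_of_locally {W : X.affineOpens} (hW : W.1 ≤ U.1) (a : Γ(T, up j W.1))
    (H : ∀ z ∈ W.1, ∃ (W' : X.affineOpens) (h : W'.1 ≤ W.1), z ∈ W'.1 ∧
      T.presheaf.map (homOfLE (up_mono j h)).op a = 0) : a = 0 := by
  choose W' h hz hres using H
  refine TopCat.Sheaf.eq_of_locally_eq' T.sheaf (fun z : W.1 => up j (W' z.1 z.2).1) (up j W.1)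
    (fun z => homOfLE (up_mono j (h z.1 z.2))) (fun y hy => ?_) a 0 fun z => ?_
  · obtain ⟨w, hw, hy'⟩ := up_inj j hy
    exact Opens.mem_iSup.2 ⟨⟨w, hw⟩, hy' _ (hz w hw)⟩
  · exact (hres z.1 z.2).trans (map_zero _).symm

theorem thetaUp_gen (V : S.affineOpens) (W : X.affineOpens) (hW : W.1 ≤ U.1)
    (e : W.1 ≤ (x ≫ i) ⁻¹ᵁ V.1) (c : i.ker.ideal V) :
    thetaUp le j f hsq hI W hW (M1.mres (kerJ x i) e (gmJ x i V c)) =
      f.appLE V.1 (up j W.1) (up_le_preimage j f hsq e) c.1 := by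
  refine sub_eq_zero.1 (eq_zero_of_locally j hW _ fun z hz => ?_)
  obtain ⟨r, hrV, hzr⟩ := V₀.2.exists_basicOpen_le (V := V.1) ⟨(x ≫ i) z, e hz⟩ (le (hW hz))
  obtain ⟨W', hW', hz', hle⟩ := exists_isAffineOpen_mem_and_subset
    (U := W.1 ⊓ (x ≫ i) ⁻¹ᵁ S.basicOpen r) (x := z) ⟨hz, hzr⟩
  have hWW : W' ≤ W.1 := fun b hb => (hle hb).1
  let D : S.affineOpens := ⟨S.basicOpen r, V₀.2.basicOpen r⟩
  have hD : W' ≤ (x ≫ i) ⁻¹ᵁ D.1 := fun b hb => (hle hb).2
  refine ⟨⟨W', hW'⟩, hWW, hz', ?_⟩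
  rw [map_sub, thetaUp_rs le j f hsq hI hW (hWW.trans hW) hWW, M1.mres_mres,
    show M1.mres (kerJ x i) (hWW.trans e) (gmJ x i V c) =
      M1.mres (kerJ x i) hD (M1.mres (kerJ x i) ((x ≫ i).preimage_mono hrV) (gmJ x i V c)) from
      (M1.mres_mres _ _ _ _).symm,
    mres_gmJ V D hrV c, thetaUp_gen_of_le le j f hsq hI D (S.basicOpen_le r) ⟨W', hW'⟩ (hWW.trans hW) hD,
    sub_eq_zero]
  have e1 := ConcreteCategory.congr_hom
    (Scheme.Hom.map_appLE f (up_le_preimage j f hsq hD) (homOfLE hrV).op) c.1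
  have e2 := ConcreteCategory.congr_hom
    (Scheme.Hom.appLE_map f (up_le_preimage j f hsq e) (homOfLE (up_mono j hWW)).op) c.1
  exact e1.trans e2.symm

/-- The local lift data. -/
noncomputable def mkLData : LData (kerMod x i) where
  U := U
  V₀ := V₀
  le := le
  A W := Γ(T, up j W.1)
  rs h := (T.presheaf.map (homOfLE (up_mono j h)).op).hom
  q W hW := (qUp j hW).hom
  str V W e := (f.appLE V.1 (up j W.1) (up_le_preimage j f hsq e)).hom
  θ := thetaUp le j f hsq hI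
  ψ W hW := (isAffineOpen_up j f hsq hI W.2 hW).fromSpec ≫ f
  rs_rs h h' a := (ConcreteCategory.congr_hom (T.presheaf.map_comp (homOfLE (up_mono j h)).op
    (homOfLE (up_mono j h')).op) a).symm
  rs_self W a := ConcreteCategory.congr_hom (T.presheaf.map_id (op (up j W.1))) a
  q_rs hW hW' h a := qUp_res j hW hW' h a
  q_surj W hW := qUp_surjective j f hsq hI W.2 hW
  q_str V W hW e a := qUp_appLE j f hsq hW e a
  rs_str V W W' h e a := ConcreteCategory.congr_hom
    (Scheme.Hom.appLE_map f (up_le_preimage j f hsq e) (homOfLE (up_mono j h)).op) a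
  str_map V V' h W e e' a := ConcreteCategory.congr_hom
    (Scheme.Hom.map_appLE f (up_le_preimage j f hsq e') (homOfLE h).op) a
  sep W hW a H := eq_zero_of_locally j hW a H
  θ_inj W hW := (thetaUp_spec le j f hsq hI W hW).1
  θ_range W hW := (thetaUp_spec le j f hsq hI W hW).2.2.1
  q_θ W hW := (thetaUp_spec le j f hsq hI W hW).2.1
  θ_smul W hW := (thetaUp_spec le j f hsq hI W hW).2.2.2.1
  θ_rs hW hW' h m := thetaUp_rs le j f hsq hI hW hW' h m
  θ_gen V W hW e c := thetaUp_gen le j f hsq hI V W hW e c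
  ψ_rs {W W'} hW hW' h := by
    show Spec.map (T.presheaf.map (homOfLE (up_mono j h)).op) ≫ _ = _
    rw [← Category.assoc, IsAffineOpen.map_fromSpec _ (isAffineOpen_up j f hsq hI W'.2 hW')]
  ψ_str V W hW e := IsAffineOpen.SpecMap_appLE_fromSpec f V.2 (isAffineOpen_up j f hsq hI W.2 hW)
    (up_le_preimage j f hsq e)
  smooth_ψ W hW := inferInstance
  open_rs {W W'} h hW := by
    haveI : IsOpenImmersion (Spec.map (CommRingCat.ofHom (T.presheaf.map (homOfLE (up_mono j h)).op).hom) ≫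
        (isAffineOpen_up j f hsq hI W.2 hW).fromSpec) := by
      show IsOpenImmersion (Spec.map (T.presheaf.map (homOfLE (up_mono j h)).op) ≫ _)
      rw [IsAffineOpen.map_fromSpec _ (isAffineOpen_up j f hsq hI W'.2 (h.trans hW))]
      infer_instance
    exact IsOpenImmersion.of_comp _ (isAffineOpen_up j f hsq hI W.2 hW).fromSpec
  isPullback W hW := isPullback_qUp j f hsq W.2 hW (isAffineOpen_up j f hsq hI W.2 hW)

@[simp] theorem mkLData_U : (mkLData le j f hsq hI).U = U := rfl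

end Groth.Agent.SmoothObs3
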