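import Groth.Agent.Lib.SmoothObs3.Cech
import Groth.Agent.Lib.ChevAff4.Main
import Groth.Agent.Lib.PP12.AffineOps
import Groth.Agent.Lib.ModM1.Pull
import Groth.Agent.Lib.CurveOm17.Glue

/-!
# Derivations into a module living on a closed subscheme
-/

set_option autoImplicit false
set_option linter.style.haveILetI false
set_option backward.isDefEq.respectTransparency false
set_option backward.isDefEq.respectTransparency.types false

universe u

open CategoryTheory CategoryTheory.Limits AlgebraicGeometry TopologicalSpace Opposite CategoryTheory.Abelian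
open scoped TensorProduct

namespace Groth.Agent.SmoothObs3

variable {X B S X₀ B₀ : Scheme.{u}} {x : X ⟶ B} {i : B ⟶ S} {t : X₀ ⟶ X} {x₀ : X₀ ⟶ B₀} {i₀ : B₀ ⟶ S}
  {J : X.Modules}

/-- The module lives on the closed subscheme, whose ideal comes from the base. -/
structure Killed (x : X ⟶ B) (i : B ⟶ S) (t : X₀ ⟶ X) (x₀ : X₀ ⟶ B₀) (i₀ : B₀ ⟶ S) (J : X.Modules) : Prop where
  closed : IsClosedImmersion t
  surj : Surjective t
  w : t ≫ x ≫ i = x₀ ≫ i₀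
  qc : Coh.IsQCoh J
  kill : ∀ (W : X.affineOpens), ∀ a ∈ t.ker.ideal W, ∀ m : Γ(J, W.1), a • m = 0
  gen : ∀ (V : S.affineOpens) (W : X.affineOpens) (e : W.1 ≤ (x ≫ i) ⁻¹ᵁ V.1),
    t.ker.ideal W ≤ (i₀.ker.ideal V).map ((x ≫ i).appLE V.1 W.1 e).hom
  base : ∀ (V : S.affineOpens), ∀ c ∈ i₀.ker.ideal V, ∀ (W : X.affineOpens) (e : W.1 ≤ (x ≫ i) ⁻¹ᵁ V.1),
    (x ≫ i).appLE V.1 W.1 e c ∈ t.ker.ideal W

variable (H : Killed x i t x₀ i₀ J)

include H in
theorem appLE_spec (W : X.affineOpens) (W₀ : X₀.affineOpens) (he : W₀.1 = t ⁻¹ᵁ W.1) :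
    Function.Surjective (t.appLE W.1 W₀.1 he.le) ∧
      ∀ a, t.appLE W.1 W₀.1 he.le a = 0 ↔ a ∈ t.ker.ideal W := by
  haveI := H.closed
  obtain ⟨W₀, hW₀⟩ := W₀
  obtain rfl : W₀ = t ⁻¹ᵁ W.1 := he
  rw [← Scheme.Hom.app_eq_appLE]
  exact ⟨Scheme.Hom.app_surjective t W.1 W.2, fun a => by rw [Scheme.Hom.ker_apply]; exact RingHom.mem_ker.symm⟩

/-- Pullback of a section. -/
noncomputable def eta (J : X.Modules) (W : X.affineOpens) (W₀ : X₀.affineOpens) (e : W₀.1 ≤ t ⁻¹ᵁ W.1) :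
    Γ(J, W.1) →+ Γ((Scheme.Modules.pullback t).obj J, W₀.1) :=
  AddMonoidHom.mk' (fun m => M1.mres _ e (M2.pullSec t J m)) fun a b => by rw [M2.pullSec_add, map_add]

theorem eta_smul (W : X.affineOpens) (W₀ : X₀.affineOpens) (e : W₀.1 ≤ t ⁻¹ᵁ W.1) (a : Γ(X, W.1))
    (m : Γ(J, W.1)) : eta J W W₀ e (a • m) = t.appLE W.1 W₀.1 e a • eta J W W₀ e m := by
  show M1.mres _ e (M2.pullSec t J (a • m)) = _
  rw [M2.pullSec_smul]
  exact Scheme.Modules.map_smul _ (homOfLE e) _ _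

theorem eta_mres {W W' : X.affineOpens} {W₀ W₀' : X₀.affineOpens} (e : W₀.1 ≤ t ⁻¹ᵁ W.1)
    (e' : W₀'.1 ≤ t ⁻¹ᵁ W'.1) (h : W'.1 ≤ W.1) (h₀ : W₀'.1 ≤ W₀.1) (m : Γ(J, W.1)) :
    M1.mres _ h₀ (eta J W W₀ e m) = eta J W' W₀' e' (M1.mres J h m) := by
  show M1.mres _ h₀ (M1.mres _ e (M2.pullSec t J m)) = M1.mres _ e' (M2.pullSec t J (M1.mres J h m))
  rw [← CurveOm17.mres_pullSec t J h m, M1.mres_mres, M1.mres_mres]

include H in
theorem eta_bijective (W : X.affineOpens) (W₀ : X₀.affineOpens) (he : W₀.1 = t ⁻¹ᵁ W.1) :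
    Function.Bijective (eta J W W₀ he.le) := by
  obtain ⟨hq, hker⟩ := appLE_spec H W W₀ he
  let q := (t.appLE W.1 W₀.1 he.le).hom
  letI : Algebra Γ(X, W.1) Γ(X₀, W₀.1) := q.toAlgebra
  letI := PullBC11.baseModule (g := t) ((Scheme.Modules.pullback t).obj J) (U := W.1) (V := W₀.1) he.le
  haveI : IsScalarTower Γ(X, W.1) Γ(X₀, W₀.1) Γ((Scheme.Modules.pullback t).obj J, W₀.1) :=
    IsScalarTower.of_algebraMap_smul fun _ _ => rfl
  have hbc : IsBaseChange Γ(X₀, W₀.1) (PullBC11.sect (PP12.unitTo t J) he.le) :=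
    PP12.isBC_unit t H.qc W.2 W₀.2 he.le
  let s₀ := Function.surjInv hq
  have hs₀ : ∀ r, q (s₀ r) = r := Function.surjInv_eq hq
  letI : SMul Γ(X₀, W₀.1) Γ(J, W.1) := ⟨fun r m => s₀ r • m⟩
  have hsmul : ∀ (a : Γ(X, W.1)) (m : Γ(J, W.1)), q a • m = a • m := fun a m => by
    show s₀ (q a) • m = a • m
    rw [← sub_eq_zero, ← sub_smul]
    exact H.kill W _ ((hker _).1 (by show q _ = 0; rw [map_sub, hs₀, sub_self])) m
  letI : Module Γ(X₀, W₀.1) Γ(J, W.1) := Function.Surjective.moduleLeft q hq hsmul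
  haveI : IsScalarTower Γ(X, W.1) Γ(X₀, W₀.1) Γ(J, W.1) := IsScalarTower.of_algebraMap_smul hsmul
  let L : Γ((Scheme.Modules.pullback t).obj J, W₀.1) →ₗ[Γ(X₀, W₀.1)] Γ(J, W.1) := hbc.lift LinearMap.id
  have hL : ∀ m, L (eta J W W₀ he.le m) = m := fun m => hbc.lift_eq LinearMap.id m
  refine ⟨fun a b hab => by rw [← hL a, hab, hL], fun n => ⟨L n, ?_⟩⟩
  induction n using hbc.inductionOn with
  | zero => rw [map_zero, map_zero]
  | tmul s => exact congrArg (eta J W W₀ he.le) (hL s)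
  | smul r n hn =>
    obtain ⟨a, rfl⟩ := hq r
    rw [map_smul, hsmul, eta_smul, hn]
  | add n n' hn hn' => rw [map_add, map_add, hn, hn']

include H in
/-- Derivations vanish on the ideal of the closed subscheme. -/
theorem ap_ker {U : X.Opens} (δ : der (x ≫ i) J U) (W : X.affineOpens) (hW : W.1 ≤ U) (k : Γ(X, W.1))
    (hk : k ∈ t.ker.ideal W) : ap δ W hW k = 0 := by
  refine section_ext_affine fun z hz => ?_
  obtain ⟨V, hV, hzV, -⟩ := exists_isAffineOpen_mem_and_subset (U := (⊤ : S.Opens)) (x := (x ≫ i) z) trivial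
  obtain ⟨W', hW', hz', hle⟩ := exists_isAffineOpen_mem_and_subset (U := W.1 ⊓ (x ≫ i) ⁻¹ᵁ V) (x := z) ⟨hz, hzV⟩
  let W₁ : X.affineOpens := ⟨W', hW'⟩
  have h1 : W₁.1 ≤ W.1 := fun b hb => (hle hb).1
  refine ⟨W₁, h1, hz', ?_⟩
  rw [map_zero, ap_nat δ W W₁ hW (h1.trans hW) h1]
  have hk' : rr h1 k ∈ t.ker.ideal W₁ := t.ker.ideal_le_comap_ideal h1 hk
  have key : ∀ a ∈ (i₀.ker.ideal ⟨V, hV⟩).map ((x ≫ i).appLE V W₁.1 (fun b hb => (hle hb).2)).hom,
      a ∈ t.ker.ideal W₁ ∧ ap δ W₁ (h1.trans hW) a = 0 := by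
    intro a ha
    induction ha using Submodule.span_induction with
    | mem y hy =>
      obtain ⟨c, hc, rfl⟩ := hy
      exact ⟨H.base ⟨V, hV⟩ c hc W₁ (fun b hb => (hle hb).2), ap_base δ W₁ (h1.trans hW) ⟨V, hV⟩ _ c⟩
    | zero => exact ⟨zero_mem _, map_zero _⟩
    | add a b _ _ ha hb => exact ⟨add_mem ha.1 hb.1, by rw [map_add, ha.2, hb.2, add_zero]⟩
    | smul r a _ ha =>
      refine ⟨Ideal.mul_mem_left _ r ha.1, ?_⟩
      rw [smul_eq_mul, ap_mul, ha.2, smul_zero, H.kill W₁ a ha.1, add_zero]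
  exact (key _ (H.gen ⟨V, hV⟩ W₁ _ hk')).2

include H in
theorem ap_eq_of_appLE {U : X.Opens} (δ : der (x ≫ i) J U) (W : X.affineOpens) (hW : W.1 ≤ U)
    (W₀ : X₀.affineOpens) (he : W₀.1 = t ⁻¹ᵁ W.1) (a b : Γ(X, W.1))
    (h : t.appLE W.1 W₀.1 he.le a = t.appLE W.1 W₀.1 he.le b) : ap δ W hW a = ap δ W hW b := by
  rw [← sub_eq_zero, ← map_sub]
  exact ap_ker H δ W hW _ (((appLE_spec H W W₀ he).2 _).1 (by rw [map_sub, h, sub_self]))

include H in
theorem exists_img (W₀ : X₀.affineOpens) : ∃ W : X.affineOpens, W₀.1 = t ⁻¹ᵁ W.1 := by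
  haveI := H.closed
  haveI := H.surj
  let O : X.Opens := ⟨t '' (W₀.1 : Set X₀),
    ((isHomeomorph_iff_isEmbedding_surjective.2 ⟨t.isClosedEmbedding.isEmbedding, t.surjective⟩).isOpenMap _ W₀.1.2)⟩
  have hpre : W₀.1 = t ⁻¹ᵁ O := Opens.ext (Set.preimage_image_eq _ t.isClosedEmbedding.injective).symm
  refine ⟨⟨O, ?_⟩, hpre⟩
  haveI : IsAffine (t ⁻¹ᵁ O).toScheme := by
    show IsAffineOpen (t ⁻¹ᵁ O)
    rw [← hpre]
    exact W₀.2
  haveI : Surjective (t ∣_ O) := IsZariskiLocalAtTarget.restrict H.surj _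
  haveI : IsClosedImmersion (t ∣_ O) := IsZariskiLocalAtTarget.restrict H.closed _
  exact ChevAff4.isAffine_of_surjective (t ∣_ O)

include H in
theorem le_of_preimage_le {W W' : X.Opens} (h : t ⁻¹ᵁ W ≤ t ⁻¹ᵁ W') : W ≤ W' := fun z hz => by
  haveI := H.surj
  obtain ⟨a, rfl⟩ := t.surjective z
  exact h hz

variable {U : X.Opens}

/-- A chosen affine open above. -/
noncomputable def img (W₀ : X₀.affineOpens) : X.affineOpens := (exists_img H W₀).choose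

theorem img_eq (W₀ : X₀.affineOpens) : W₀.1 = t ⁻¹ᵁ (img H W₀).1 := (exists_img H W₀).choose_spec

theorem img_le (W₀ : X₀.affineOpens) (h : W₀.1 ≤ t ⁻¹ᵁ U) : (img H W₀).1 ≤ U :=
  le_of_preimage_le H ((img_eq H W₀).ge.trans h)

/-- A chosen lift of a function. -/
noncomputable def liftFun (W₀ : X₀.affineOpens) (r : Γ(X₀, W₀.1)) : Γ(X, (img H W₀).1) :=
  Function.surjInv (appLE_spec H _ W₀ (img_eq H W₀)).1 r

theorem liftFun_spec (W₀ : X₀.affineOpens) (r : Γ(X₀, W₀.1)) :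
    t.appLE (img H W₀).1 W₀.1 (img_eq H W₀).le (liftFun H W₀ r) = r :=
  Function.surjInv_eq _ r

/-- The value of the restricted derivation. -/
noncomputable def downVal (δ : der (x ≫ i) J U) (W₀ : Idx (t ⁻¹ᵁ U)) (r : Γ(X₀, W₀.1.1)) :
    Γ((Scheme.Modules.pullback t).obj J, W₀.1.1) :=
  eta J (img H W₀.1) W₀.1 (img_eq H W₀.1).le (ap δ _ (img_le H W₀.1 W₀.2) (liftFun H W₀.1 r))

theorem downVal_eq (δ : der (x ≫ i) J U) (W₀ : Idx (t ⁻¹ᵁ U)) (r : Γ(X₀, W₀.1.1))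
    (a : Γ(X, (img H W₀.1).1)) (ha : t.appLE (img H W₀.1).1 W₀.1.1 (img_eq H W₀.1).le a = r) :
    downVal H δ W₀ r = eta J (img H W₀.1) W₀.1 (img_eq H W₀.1).le (ap δ _ (img_le H W₀.1 W₀.2) a) :=
  congrArg (eta J _ W₀.1 _) (ap_eq_of_appLE H δ _ _ W₀.1 (img_eq H W₀.1) _ _ ((liftFun_spec H _ r).trans ha.symm))

/-- The restriction of derivations to the closed subscheme. -/
noncomputable def down (U : X.Opens) : der (x ≫ i) J U →+
    der (x₀ ≫ i₀) ((Scheme.Modules.pullback t).obj J) (t ⁻¹ᵁ U) :=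
  AddMonoidHom.mk' (fun δ => ⟨fun W₀ => AddMonoidHom.mk' (downVal H δ W₀) fun r s => by
      rw [downVal_eq H δ W₀ (r + s) (liftFun H W₀.1 r + liftFun H W₀.1 s)
        (by rw [map_add, liftFun_spec, liftFun_spec]), map_add, map_add]
      rfl,
    fun W₀ r s => by
      show downVal H δ W₀ (r * s) = r • downVal H δ W₀ s + s • downVal H δ W₀ r
      rw [downVal_eq H δ W₀ (r * s) (liftFun H W₀.1 r * liftFun H W₀.1 s)
        (by rw [map_mul, liftFun_spec, liftFun_spec]), ap_mul, map_add, eta_smul, eta_smul, liftFun_spec,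
        liftFun_spec]
      rfl,
    fun W₀ V e c => by
      have e' : (img H W₀.1).1 ≤ (x ≫ i) ⁻¹ᵁ V.1 := le_of_preimage_le H (by
        rw [← img_eq H W₀.1, ← Scheme.Hom.comp_preimage, H.w]
        exact e)
      show downVal H δ W₀ _ = 0
      rw [downVal_eq H δ W₀ _ ((x ≫ i).appLE V.1 _ e' c) ?_, ap_base, map_zero]
      have hc : (x ≫ i).appLE V.1 _ e' ≫ t.appLE _ W₀.1.1 (img_eq H W₀.1).le = (x₀ ≫ i₀).appLE V.1 W₀.1.1 e := by
        rw [Scheme.Hom.appLE_comp_appLE]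
        simp only [H.w]
      exact ConcreteCategory.congr_hom hc c,
    fun W₀ W₀' h r => by
      have h' : (img H W₀'.1).1 ≤ (img H W₀.1).1 :=
        le_of_preimage_le H (by rw [← img_eq H W₀'.1, ← img_eq H W₀.1]; exact h)
      show M1.mres _ h (eta J _ _ _ _) = downVal H δ W₀' _
      rw [eta_mres (img_eq H W₀.1).le (img_eq H W₀'.1).le h' h,
        ap_nat δ (img H W₀.1) (img H W₀'.1) (img_le H W₀.1 W₀.2) (img_le H W₀'.1 W₀'.2) h']
      refine (downVal_eq H δ W₀' _ _ ?_).symm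
      have hc : X.presheaf.map (homOfLE h').op ≫ t.appLE _ W₀'.1.1 (img_eq H W₀'.1).le =
          t.appLE _ W₀.1.1 (img_eq H W₀.1).le ≫ X₀.presheaf.map (homOfLE h).op := by
        rw [Scheme.Hom.map_appLE, Scheme.Hom.appLE_map]
      exact (ConcreteCategory.congr_hom hc _).trans (congrArg (rr h) (liftFun_spec H _ r))⟩)
    fun δ ε => ext' fun W₀ hW₀ r => map_add (eta J _ W₀ _) _ _

theorem ap_down (δ : der (x ≫ i) J U) (W : X.affineOpens) (hW : W.1 ≤ U) (W₀ : X₀.affineOpens)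
    (he : W₀.1 = t ⁻¹ᵁ W.1) (hW₀ : W₀.1 ≤ t ⁻¹ᵁ U) (a : Γ(X, W.1)) :
    ap (down H U δ) W₀ hW₀ (t.appLE W.1 W₀.1 he.le a) = eta J W W₀ he.le (ap δ W hW a) := by
  obtain rfl : W = img H W₀ := Subtype.ext (le_antisymm
    (le_of_preimage_le H (he.symm.trans (img_eq H W₀)).le) (le_of_preimage_le H ((img_eq H W₀).symm.trans he).le))
  exact downVal_eq H δ ⟨W₀, hW₀⟩ _ a rfl

theorem down_res {U' : X.Opens} (h : U' ≤ U) (δ : der (x ≫ i) J U) :
    down H U' (res h δ) = res (t.preimage_mono h) (down H U δ) := rfl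

theorem down_eq (δ : der (x ≫ i) J U) (ε : der (x₀ ≫ i₀) ((Scheme.Modules.pullback t).obj J) (t ⁻¹ᵁ U))
    (W : X.affineOpens) (W₀ : X₀.affineOpens) (he : W₀.1 = t ⁻¹ᵁ W.1) (hW : W.1 ≤ U) (hW₀ : W₀.1 ≤ t ⁻¹ᵁ U)
    (h : ∀ a, eta J W W₀ he.le (ap δ W hW a) = ap ε W₀ hW₀ (t.appLE W.1 W₀.1 he.le a)) (r : Γ(X₀, W₀.1)) :
    ap (down H U δ) W₀ hW₀ r = ap ε W₀ hW₀ r := by
  obtain ⟨a, rfl⟩ := (appLE_spec H W W₀ he).1 r
  exact (ap_down H δ W hW W₀ he hW₀ a).trans (h a)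

/-- The affine open below. -/
noncomputable abbrev preAff (H : Killed x i t x₀ i₀ J) (W : X.affineOpens) : X₀.affineOpens :=
  ⟨t ⁻¹ᵁ W.1, haveI := H.closed; W.2.preimage t⟩

theorem exists_preimage_eta (ε : der (x₀ ≫ i₀) ((Scheme.Modules.pullback t).obj J) (t ⁻¹ᵁ U)) :
    ∃ δ : der (x ≫ i) J U, ∀ (W : X.affineOpens) (hW : W.1 ≤ U) (a : Γ(X, W.1)),
      eta J W (preAff H W) le_rfl (ap δ W hW a) =
        ap ε (preAff H W) (t.preimage_mono hW) (t.appLE W.1 (preAff H W).1 le_rfl a) := by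
  haveI := H.closed
  let pre : X.affineOpens → X₀.affineOpens := preAff H
  let inv : ∀ W : Idx U, Γ((Scheme.Modules.pullback t).obj J, (pre W.1).1) → Γ(J, W.1.1) := fun W n =>
    ((eta_bijective H W.1 (pre W.1) rfl).2 n).choose
  have hinv : ∀ W n, eta J W.1 (pre W.1) le_rfl (inv W n) = n := fun W n =>
    ((eta_bijective H W.1 (pre W.1) rfl).2 n).choose_spec
  have inj : ∀ W : Idx U, Function.Injective (eta J W.1 (pre W.1) (le_refl (t ⁻¹ᵁ W.1.1))) := fun W =>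
    (eta_bijective H W.1 (pre W.1) rfl).1
  let v : ∀ W : Idx U, Γ(X, W.1.1) → Γ(J, W.1.1) := fun W a =>
    inv W (ap ε (pre W.1) (t.preimage_mono W.2) (t.appLE W.1.1 _ le_rfl a))
  have hv : ∀ W a, eta J W.1 (pre W.1) le_rfl (v W a) =
      ap ε (pre W.1) (t.preimage_mono W.2) (t.appLE W.1.1 _ le_rfl a) := fun W a => hinv W _
  refine ⟨⟨fun W => AddMonoidHom.mk' (v W) fun a b => inj W (by rw [map_add, hv, hv, hv, map_add, map_add]),
    fun W a b => inj W ?_, fun W V e c => inj W ?_, fun W W' h a => inj W' ?_⟩, fun W hW a => hv ⟨W, hW⟩ a⟩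
  · show eta J _ _ _ (v W (a * b)) = eta J _ _ _ (a • v W b + b • v W a)
    rw [map_add, eta_smul, eta_smul, hv, hv, hv, map_mul, ap_mul]
  · show eta J _ _ _ (v W _) = eta J _ _ _ 0
    rw [hv, map_zero]
    have e₀ : (pre W.1).1 ≤ (x₀ ≫ i₀) ⁻¹ᵁ V.1 := by
      rw [← H.w]
      exact t.preimage_mono e
    have hc : (x ≫ i).appLE V.1 W.1.1 e ≫ t.appLE W.1.1 (pre W.1).1 le_rfl =
        (x₀ ≫ i₀).appLE V.1 (pre W.1).1 e₀ := by
      rw [Scheme.Hom.appLE_comp_appLE]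
      simp only [H.w]
    rw [show t.appLE W.1.1 (pre W.1).1 le_rfl ((x ≫ i).appLE V.1 W.1.1 e c) = _ from
      ConcreteCategory.congr_hom hc c, ap_base]
  · show eta J _ _ _ (M1.mres J h (v W a)) = eta J _ _ _ (v W' (rr h a))
    rw [hv, ← eta_mres (W₀ := pre W.1) (le_refl (t ⁻¹ᵁ W.1.1)) (le_refl (t ⁻¹ᵁ W'.1.1)) h (t.preimage_mono h), hv,
      ap_nat ε (pre W.1) (pre W'.1) (t.preimage_mono W.2) (t.preimage_mono W'.2) (t.preimage_mono h)]
    have hc : t.appLE W.1.1 _ le_rfl ≫ X₀.presheaf.map (homOfLE (t.preimage_mono h)).op =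
        X.presheaf.map (homOfLE h).op ≫ t.appLE W'.1.1 _ (le_refl (t ⁻¹ᵁ W'.1.1)) := by
      rw [Scheme.Hom.appLE_map, Scheme.Hom.map_appLE]
    exact congrArg _ (ConcreteCategory.congr_hom hc a)

theorem down_bijective (U : X.Opens) : Function.Bijective (down H U) := by
  haveI := H.closed
  refine ⟨(injective_iff_map_eq_zero _).2 fun δ hδ => ext' fun W hW a => ?_, fun ε => ?_⟩
  · refine (eta_bijective H W (preAff H W) rfl).1 ?_
    rw [← ap_down H δ W hW (preAff H W) rfl (t.preimage_mono hW) a, hδ, ap_zero, ap_zero, map_zero]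
  · obtain ⟨δ, hδ⟩ := exists_preimage_eta H ε
    refine ⟨δ, ext' fun W₀ hW₀ r => ?_⟩
    obtain ⟨W, he⟩ := exists_img H W₀
    have hW : W.1 ≤ U := le_of_preimage_le H (he.ge.trans hW₀)
    obtain rfl : W₀ = preAff H W := Subtype.ext he
    exact down_eq H δ ε W _ rfl hW hW₀ (hδ W hW) r

set_option maxHeartbeats 3000000 in
include H in
/-- Two-cocycles are coboundaries when this holds on the closed subscheme. -/
theorem exists_boundary_of_killed [QuasiSeparated x₀] [Smooth x₀] [IsClosedImmersion i₀] [HasExt.{u} X₀.Modules]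
    (h2 : Subsingleton (Ext.{u} (Omega.sheaf x₀) ((Scheme.Modules.pullback t).obj J) 2)) {ι : Type u}
    (U : ι → X.affineOpens) (hcov : ⨆ a, (U a).1 = ⊤) (hsub : ∀ a, Sub x i (U a))
    (c : ∀ a b d, der (x ≫ i) J ((U a).1 ⊓ (U b).1 ⊓ (U d).1))
    (hc : ∀ a b d m (O : X.Opens) (ha : O ≤ (U a).1) (hb : O ≤ (U b).1) (hd : O ≤ (U d).1) (hm : O ≤ (U m).1),
      res (le_inf (le_inf hb hd) hm) (c b d m) + res (le_inf (le_inf ha hb) hm) (c a b m) =
        res (le_inf (le_inf ha hd) hm) (c a d m) + res (le_inf (le_inf ha hb) hd) (c a b d)) :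
    ∃ s : ∀ a b, der (x ≫ i) J ((U a).1 ⊓ (U b).1), ∀ a b d, bd (fun a => (U a).1) s a b d = c a b d := by
  haveI := H.closed
  haveI := H.surj
  let U₀ : ι → X₀.affineOpens := fun a => ⟨t ⁻¹ᵁ (U a).1, (U a).2.preimage t⟩
  have hcov₀ : ⨆ a, (U₀ a).1 = ⊤ := by
    show ⨆ a, t ⁻¹ᵁ (U a).1 = ⊤
    rw [← Scheme.Hom.preimage_iSup, hcov]
    rfl
  have hsub₀ : ∀ a, Sub x₀ i₀ (U₀ a) := fun a => by
    obtain ⟨V, hV⟩ := hsub a
    refine ⟨V, ?_⟩
    rw [← H.w]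
    exact t.preimage_mono hV
  obtain ⟨s₀, hs₀⟩ := exists_boundary (x := x₀) (i := i₀) (M1.isQCoh_pullback t H.qc) h2 U₀ hcov₀ hsub₀
    (fun a b d => down H _ (c a b d)) fun a b d m O ha hb hd hm => by
      have hO : O ≤ t ⁻¹ᵁ ((U a).1 ⊓ (U b).1 ⊓ (U d).1 ⊓ (U m).1) := le_inf (le_inf (le_inf ha hb) hd) hm
      have e := congrArg (down H ((U a).1 ⊓ (U b).1 ⊓ (U d).1 ⊓ (U m).1))
        (hc a b d m _ (inf_le_left.trans (inf_le_left.trans inf_le_left))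
          (inf_le_left.trans (inf_le_left.trans inf_le_right)) (inf_le_left.trans inf_le_right) inf_le_right)
      have e2 := congrArg (res hO) e
      simp only [map_add, down_res, res_res] at e2
      exact e2
  choose s hs using fun a b => (down_bijective H ((U a).1 ⊓ (U b).1)).2 (s₀ a b)
  refine ⟨s, fun a b d => (down_bijective H _).1 ?_⟩
  refine Eq.trans ?_ (hs₀ a b d)
  show down H _ (res inf_le_left (s a b) + res (inf_le_inf_right _ inf_le_right) (s b d) -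
    res (inf_le_inf_right _ inf_le_left) (s a d)) = _
  rw [map_sub, map_add, down_res, down_res, down_res, hs, hs, hs]
  rfl

end Groth.Agent.SmoothObs3
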