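import Groth.Agent.Lib.SmoothObs3.LocalData
import Groth.Agent.Lib.SmoothObs3.Glue
import Groth.Agent.Lib.SmoothObs3.Transfer
import Groth.Agent.Lib.FormalH7.SmoothLift

/-!
# Smooth lifts exist when the obstruction group vanishes
-/

set_option autoImplicit false
set_option linter.style.haveILetI false
set_option backward.isDefEq.respectTransparency false
set_option backward.isDefEq.respectTransparency.types false

universe u

open CategoryTheory CategoryTheory.Limits AlgebraicGeometry TopologicalSpace Opposite CategoryTheory.Abelian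

namespace Groth.Agent.SmoothObs3

theorem subsingleton_ext_of_iso {C : Type*} [Category C] [Abelian C] [HasExt.{u} C] {A A' B B' : C} {n : ℕ}
    (eA : A ≅ A') (eB : B ≅ B') (h : Subsingleton (Ext.{u} A B n)) : Subsingleton (Ext.{u} A' B' n) := by
  have key : ∀ y : Ext.{u} A' B' n, y = (Ext.mk₀ eA.inv).comp
      (((Ext.mk₀ eA.hom).comp y (zero_add n)).comp (Ext.mk₀ eB.inv) (add_zero n) |>.comp
        (Ext.mk₀ eB.hom) (add_zero n)) (zero_add n) := fun y => by simp
  exact ⟨fun y z => by rw [key y, key z, Subsingleton.elim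
    (((Ext.mk₀ eA.hom).comp y (zero_add n)).comp (Ext.mk₀ eB.inv) (add_zero n))
    (((Ext.mk₀ eA.hom).comp z (zero_add n)).comp (Ext.mk₀ eB.inv) (add_zero n))]⟩

variable {X B S : Scheme.{u}}

theorem exists_lData (x : X ⟶ B) (i : B ⟶ S) [IsClosedImmersion i] [Surjective i] [Smooth x]
    (hI : i.ker * i.ker = ⊥) (z : X) : ∃ L : LData (kerMod x i), z ∈ L.U.1 := by
  obtain ⟨V, hV, hzV, -⟩ := exists_isAffineOpen_mem_and_subset (U := (⊤ : S.Opens)) (x := (x ≫ i) z) trivial
  obtain ⟨U, hU, hz, hUV⟩ := exists_isAffineOpen_mem_and_subset (U := (x ≫ i) ⁻¹ᵁ V) (x := z) hzV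
  obtain ⟨C, c, hc, e, he⟩ := FormalH7.exists_smooth_extension i x hV hU hUV
  haveI : Smooth (Spec.map c) := (HasRingHomProperty.Spec_iff (P := @Smooth)).2 hc
  let g : Spec C ⟶ S := Spec.map c ≫ hV.fromSpec
  haveI : Smooth g := inferInstance
  let j : U.toScheme ⟶ Spec C := e.inv ≫ pullback.fst g i
  have hsq : IsPullback j (U.ι ≫ x) g i := by
    refine IsPullback.of_iso (IsPullback.of_hasPullback g i) e (Iso.refl _) (Iso.refl _) (Iso.refl _) ?_ ?_ ?_ ?_
    · simp [j]
    · simp [g, he]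
    · simp
    · simp
  haveI : IsClosedImmersion j := MorphismProperty.of_isPullback hsq.flip (inferInstance : IsClosedImmersion i)
  haveI : Surjective j := MorphismProperty.of_isPullback hsq.flip (inferInstance : Surjective i)
  exact ⟨mkLData (U := ⟨U, hU⟩) (V₀ := ⟨V, hV⟩) hUV j g hsq hI, hz⟩

/-- A smooth scheme lifts along a square zero thickening if the obstruction group vanishes. -/
theorem exists_smooth_lift (x : X ⟶ B) (i : B ⟶ S) [IsClosedImmersion i] [Surjective i] [Smooth x] [X.IsSeparated]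
    [HasExt.{u} X.Modules] (hI : i.ker * i.ker = ⊥)
    (h2 : Subsingleton (Ext.{u} (Omega.sheaf x) (kerJ x i) 2)) :
    ∃ (T : Scheme.{u}) (f : T ⟶ S) (j : X ⟶ T), Smooth f ∧ IsPullback j x f i := by
  choose L hL using exists_lData x i hI
  have hcov : ⨆ z, (L z).U.1 = ⊤ := top_le_iff.1 fun z _ => Opens.mem_iSup.2 ⟨z, hL z⟩
  obtain ⟨φ, hφ⟩ := exists_cocycleHom (M1.isQCoh_pullback (x ≫ i) (M2.isQCoh_idealMod i.ker)) h2 L hcov
  exact exists_glued φ hφ hcov

/-- The kernel module lives on a closed subscheme killing the ideal. -/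
theorem killed_kerJ {X₀ B₀ : Scheme.{u}} {x : X ⟶ B} {i : B ⟶ S} [IsClosedImmersion i] {t : X₀ ⟶ X}
    {x₀ : X₀ ⟶ B₀} {i₀ : B₀ ⟶ S} [IsClosedImmersion i₀] [Surjective i₀] (h : IsPullback t x₀ (x ≫ i) i₀)
    (hI : i₀.ker * i.ker = ⊥) : Killed x i t x₀ i₀ (kerJ x i) := by
  haveI ht : IsClosedImmersion t := MorphismProperty.of_isPullback h.flip (inferInstance : IsClosedImmersion i₀)
  have hk : t.ker = i₀.ker.comap (x ≫ i) := FormalH7.ker_of_isPullback h
  have hmap : ∀ (V : S.affineOpens) (W : X.affineOpens) (e : W.1 ≤ (x ≫ i) ⁻¹ᵁ V.1),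
      t.ker.ideal W = (i₀.ker.ideal V).map ((x ≫ i).appLE V.1 W.1 e).hom := fun V W e => by
    rw [hk, EffCartier.comap_ideal i₀.ker (x ≫ i) V W e]
  refine ⟨ht, MorphismProperty.of_isPullback h.flip (inferInstance : Surjective i₀), h.w,
    M1.isQCoh_pullback (x ≫ i) (M2.isQCoh_idealMod i.ker), fun W a ha m => ?_, fun V W e => (hmap V W e).le,
    fun V c hc W e => (hmap V W e).ge (Ideal.mem_map_of_mem _ hc)⟩
  refine section_ext_affine fun z hz => ?_
  obtain ⟨V, hV, hzV, -⟩ := exists_isAffineOpen_mem_and_subset (U := (⊤ : S.Opens)) (x := (x ≫ i) z) trivial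
  obtain ⟨W', hW', hz', hle⟩ := exists_isAffineOpen_mem_and_subset (U := W.1 ⊓ (x ≫ i) ⁻¹ᵁ V) (x := z) ⟨hz, hzV⟩
  let W₁ : X.affineOpens := ⟨W', hW'⟩
  let V₁ : S.affineOpens := ⟨V, hV⟩
  have h1 : W₁.1 ≤ W.1 := fun b hb => (hle hb).1
  have e : W₁.1 ≤ (x ≫ i) ⁻¹ᵁ V₁.1 := fun b hb => (hle hb).2
  refine ⟨W₁, h1, hz', ?_⟩
  rw [map_zero]
  refine (Scheme.Modules.map_smul _ (homOfLE h1) a m).trans ?_
  have ha' : rr h1 a ∈ (i₀.ker.ideal V₁).map ((x ≫ i).appLE V₁.1 W₁.1 e).hom :=
    (hmap V₁ W₁ e).le (t.ker.ideal_le_comap_ideal h1 ha)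
  have key : ∀ b ∈ (i₀.ker.ideal V₁).map ((x ≫ i).appLE V₁.1 W₁.1 e).hom,
      ∀ n : Γ(kerJ x i, W₁.1), b • n = 0 := by
    intro b hb
    induction hb using Submodule.span_induction with
    | mem y hy =>
      obtain ⟨c, hc, rfl⟩ := hy
      intro n
      induction span_gmJ x i V₁ W₁ e n using Submodule.span_induction with
      | mem y hy =>
        obtain ⟨d, rfl⟩ := hy
        have hcd : c • d = (0 : i.ker.ideal V₁) := Subtype.ext (by
          have h0 := congrArg (fun I : S.IdealSheafData => I.ideal V₁) hI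
          simp only [Scheme.IdealSheafData.ideal_mul, Pi.mul_apply, Scheme.IdealSheafData.ideal_bot,
            Pi.bot_apply] at h0
          exact Ideal.mem_bot.1 (h0.le (Ideal.mul_mem_mul hc d.2)))
        have h0 : gmJ x i V₁ (0 : i.ker.ideal V₁) = 0 := by
          have := gmJ_add (x := x) (i := i) V₁ 0 0
          rw [add_zero, left_eq_add] at this
          exact this
        have := congrArg (M1.mres (kerJ x i) e) (gmJ_smul (x := x) (i := i) V₁ c d)
        rw [hcd, h0, map_zero, Scheme.Modules.map_smul] at this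
        exact this.symm
      | zero => exact smul_zero _
      | add y z _ _ iy iz => rw [smul_add, iy, iz, add_zero]
      | smul r y _ iy => rw [smul_comm, iy, smul_zero]
    | zero => exact fun n => zero_smul _ n
    | add y z _ _ iy iz => exact fun n => by rw [add_smul, iy n, iz n, add_zero]
    | smul r y _ iy => exact fun n => by rw [smul_eq_mul, mul_smul, iy n, smul_zero]
  exact key _ ha' _

/-- Lifting when the obstruction group of a smaller closed fibre vanishes. -/
theorem exists_smooth_lift_of_killed {X₀ B₀ : Scheme.{u}} (x : X ⟶ B) (i : B ⟶ S) [IsClosedImmersion i]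
    [Surjective i] [Smooth x] [X.IsSeparated] (hI : i.ker * i.ker = ⊥) {t : X₀ ⟶ X} {x₀ : X₀ ⟶ B₀} {i₀ : B₀ ⟶ S}
    [IsClosedImmersion i₀] [Surjective i₀] [Smooth x₀] [QuasiSeparated x₀] [HasExt.{u} X₀.Modules]
    (h : IsPullback t x₀ (x ≫ i) i₀) (hI₀ : i₀.ker * i.ker = ⊥)
    (h2 : Subsingleton (Ext.{u} (Omega.sheaf x₀) ((Scheme.Modules.pullback t).obj (kerJ x i)) 2)) :
    ∃ (T : Scheme.{u}) (f : T ⟶ S) (j : X ⟶ T), Smooth f ∧ IsPullback j x f i := by
  choose L hL using exists_lData x i hI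
  have hcov : ⨆ z, (L z).U.1 = ⊤ := top_le_iff.1 fun z _ => Opens.mem_iSup.2 ⟨z, hL z⟩
  obtain ⟨φ, hφ⟩ := exists_cocycleHom_of (K := kerMod x i)
    (fun U hcov hsub c hc => exists_boundary_of_killed (killed_kerJ h hI₀) h2 U hcov hsub c hc) L hcov
  exact exists_glued φ hφ hcov

end Groth.Agent.SmoothObs3
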